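import Mathlib

/-!
The number of anti-triangular matrices with prescribed antidiagonal and characteristic polynomial
does not depend on the antidiagonal modulo the characteristic.
-/

set_option autoImplicit false
set_option linter.unusedSectionVars false

namespace CfsgLib.SLBlocks

open Finset

section Filt

variable {R : Type*} [CommRing R]

/-- A degree filtration: the members of `L a` have all their parts of degree below `a`. -/
structure Filt (R : Type*) [CommRing R] where
  L : ℕ → AddSubgroup R
  mul_mem : ∀ {a b c : ℕ} {x y : R}, x ∈ L a → y ∈ L b → a + b ≤ c + 1 → x * y ∈ L c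
  one_mem : (1 : R) ∈ L 1

variable (Φ : Filt R)

theorem Filt.prod_mem {ι : Type*} (s : Finset ι) (f : ι → R) (d : ι → ℕ)
    (h : ∀ i ∈ s, f i ∈ Φ.L (d i + 1)) : ∏ i ∈ s, f i ∈ Φ.L (∑ i ∈ s, d i + 1) := by
  classical
  induction s using Finset.induction with
  | empty => simpa using Φ.one_mem
  | insert a s ha ih =>
    rw [prod_insert ha, sum_insert ha]
    exact Φ.mul_mem (h a (mem_insert_self a s)) (ih fun i hi => h i (mem_insert_of_mem hi))
      (by omega)

theorem Filt.prod_sub_mem {ι : Type*} (s : Finset ι) (f g : ι → R) (d : ι → ℕ)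
    (hf : ∀ i ∈ s, f i ∈ Φ.L (d i + 1)) (hg : ∀ i ∈ s, g i ∈ Φ.L (d i + 1))
    (h : ∀ i ∈ s, f i - g i ∈ Φ.L (d i)) :
    ∏ i ∈ s, f i - ∏ i ∈ s, g i ∈ Φ.L (∑ i ∈ s, d i) := by
  classical
  induction s using Finset.induction with
  | empty => simp
  | insert a s ha ih =>
    rw [prod_insert ha, prod_insert ha, sum_insert ha]
    have e : f a * ∏ i ∈ s, f i - g a * ∏ i ∈ s, g i =
        f a * (∏ i ∈ s, f i - ∏ i ∈ s, g i) + (f a - g a) * ∏ i ∈ s, g i := by ring
    rw [e]
    refine add_mem (Φ.mul_mem (hf a (mem_insert_self a s)) (ih (fun i hi => hf i (mem_insert_of_mem hi))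
      (fun i hi => hg i (mem_insert_of_mem hi)) fun i hi => h i (mem_insert_of_mem hi)) (by omega)) ?_
    exact Φ.mul_mem (h a (mem_insert_self a s))
      (Φ.prod_mem s g d fun i hi => hg i (mem_insert_of_mem hi)) (by omega)

theorem Filt.det_sub_mem {m : Type*} [Fintype m] [DecidableEq m] (A B : Matrix m m R)
    (hA : ∀ i j, A i j ∈ Φ.L 2) (hB : ∀ i j, B i j ∈ Φ.L 2) (h : ∀ i j, A i j - B i j ∈ Φ.L 1) :
    A.det ∈ Φ.L (Fintype.card m + 1) ∧ A.det - B.det ∈ Φ.L (Fintype.card m) := by
  have hs : ∑ _i : m, 1 = Fintype.card m := by simp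
  rw [Matrix.det_apply, Matrix.det_apply, ← Finset.sum_sub_distrib, ← hs]
  constructor
  · refine AddSubgroup.sum_mem _ fun σ _ => ?_
    rw [Units.smul_def]
    exact zsmul_mem (Φ.prod_mem univ _ (fun _ => 1) fun i _ => hA _ _) _
  · refine AddSubgroup.sum_mem _ fun σ _ => ?_
    rw [Units.smul_def, Units.smul_def, ← smul_sub]
    exact zsmul_mem (Φ.prod_sub_mem univ _ _ (fun _ => 1) (fun i _ => hA _ _) (fun i _ => hB _ _)
      fun i _ => h _ _) _

end Filt

section Degree

variable {F : Type*} [CommRing F] (ι : Type*)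

open MvPolynomial

/-- Polynomials with all monomials of degree below `a`. -/
def LD (a : ℕ) : AddSubgroup (MvPolynomial ι F) where
  carrier := {f | ∀ m, f.coeff m ≠ 0 → (m.sum fun _ e => e) < a}
  zero_mem' := fun m hm => absurd (coeff_zero m) hm
  add_mem' := fun {f g} hf hg m hm => by
    rw [coeff_add] at hm
    by_cases h : f.coeff m = 0
    · exact hg m (by simpa [h] using hm)
    · exact hf m h
  neg_mem' := fun {f} hf m hm => hf m (by simpa using hm)

theorem mem_LD {a : ℕ} {f : MvPolynomial ι F} :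
    f ∈ LD ι a ↔ ∀ m, f.coeff m ≠ 0 → (m.sum fun _ e => e) < a := Iff.rfl

/-- The filtration by total degree. -/
noncomputable def mvFilt : Filt (MvPolynomial ι F) where
  L := LD ι
  one_mem := fun m hm => by
    classical
    rw [coeff_one] at hm
    by_cases h : (0 : ι →₀ ℕ) = m
    · subst h; simp
    · simp [h] at hm
  mul_mem := fun {a b c x y} hx hy hab m hm => by
    classical
    rw [coeff_mul] at hm
    obtain ⟨z, hz, hne⟩ := Finset.exists_ne_zero_of_sum_ne_zero hm
    have h1 := hx z.1 (left_ne_zero_of_mul hne)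
    have h2 := hy z.2 (right_ne_zero_of_mul hne)
    rw [Finset.HasAntidiagonal.mem_antidiagonal] at hz
    rw [← hz, Finsupp.sum_add_index' (fun _ => rfl) (fun _ _ _ => rfl)]
    omega

theorem C_mem_LD (c : F) : (C c : MvPolynomial ι F) ∈ LD ι 1 := fun m hm => by
  classical
  rw [coeff_C] at hm
  by_cases h : (0 : ι →₀ ℕ) = m
  · subst h; simp
  · simp [h] at hm

theorem X_mem_LD (i : ι) : (X i : MvPolynomial ι F) ∈ LD ι 2 := fun m hm => by
  classical
  rw [coeff_X] at hm
  by_cases h : Finsupp.single i 1 = m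
  · subst h; simp
  · simp [h] at hm

theorem LD_mono {a b : ℕ} (h : a ≤ b) {f : MvPolynomial ι F} (hf : f ∈ LD ι a) : f ∈ LD ι b :=
  fun m hm => (hf m hm).trans_le h

/-- The filtration of polynomials over them by joint degree. -/
noncomputable def polyFilt : Filt (Polynomial (MvPolynomial ι F)) where
  L a :=
    { carrier := {P | ∀ j, P.coeff j ∈ LD ι (a - j)}
      zero_mem' := fun j => by simp [zero_mem]
      add_mem' := fun {P Q} hP hQ j => by rw [Polynomial.coeff_add]; exact add_mem (hP j) (hQ j)
      neg_mem' := fun {P} hP j => by rw [Polynomial.coeff_neg]; exact neg_mem (hP j) }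
  one_mem := fun j => by
    rcases j with - | j
    · simpa using C_mem_LD ι (1 : F)
    · simp [Polynomial.coeff_one]
  mul_mem := fun {a b c x y} hx hy hab j => by
    rw [Polynomial.coeff_mul]
    refine AddSubgroup.sum_mem _ fun z hz => ?_
    rw [Finset.HasAntidiagonal.mem_antidiagonal] at hz
    have hzero : ∀ {f : MvPolynomial ι F}, f ∈ LD ι 0 → f = 0 := fun hf => by
      ext m
      by_contra hm
      exact Nat.not_lt_zero _ (hf m (by simpa using hm))
    by_cases h1 : a ≤ z.1
    · have := hx z.1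
      rw [Nat.sub_eq_zero_of_le h1] at this
      rw [hzero this, zero_mul]; exact zero_mem _
    by_cases h2 : b ≤ z.2
    · have := hy z.2
      rw [Nat.sub_eq_zero_of_le h2] at this
      rw [hzero this, mul_zero]; exact zero_mem _
    exact (mvFilt ι).mul_mem (hx z.1) (hy z.2) (by omega)

theorem charpoly_coeff_mem {n : ℕ} (A B : Matrix (Fin n) (Fin n) (MvPolynomial ι F))
    (hA : ∀ i j, A i j ∈ LD ι 2) (hB : ∀ i j, B i j ∈ LD ι 2)
    (h : ∀ i j, A i j - B i j ∈ LD ι 1) (j : ℕ) :
    A.charpoly.coeff j ∈ LD ι (n + 1 - j) ∧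
      A.charpoly.coeff j - B.charpoly.coeff j ∈ LD ι (n - j) := by
  have hC : ∀ (a : ℕ) (f : MvPolynomial ι F), f ∈ LD ι a →
      Polynomial.C f ∈ (polyFilt ι).L a := fun a f hf i => by
    rcases i with - | i
    · simpa using hf
    · simp
  have hX : (Polynomial.X : Polynomial (MvPolynomial ι F)) ∈ (polyFilt ι).L 2 := fun i => by
    rcases i with - | - | i
    · simp
    · simpa using C_mem_LD ι (1 : F)
    · simp [Polynomial.coeff_X]
  have hent : ∀ M : Matrix (Fin n) (Fin n) (MvPolynomial ι F), (∀ i j, M i j ∈ LD ι 2) →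
      ∀ i j, M.charmatrix i j ∈ (polyFilt ι).L 2 := fun M hM i j => by
    by_cases hij : i = j
    · subst hij
      rw [Matrix.charmatrix_apply_eq]
      exact sub_mem hX (hC 2 _ (hM i i))
    · rw [Matrix.charmatrix_apply_ne _ _ _ hij]
      exact neg_mem (hC 2 _ (hM i j))
  obtain ⟨h1, h2⟩ := (polyFilt ι).det_sub_mem A.charmatrix B.charmatrix (hent A hA) (hent B hB)
    fun i j => by
      have e : A.charmatrix i j - B.charmatrix i j = -Polynomial.C (A i j - B i j) := by
        by_cases hij : i = j
        · subst hij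
          rw [Matrix.charmatrix_apply_eq, Matrix.charmatrix_apply_eq, map_sub]; ring
        · rw [Matrix.charmatrix_apply_ne _ _ _ hij, Matrix.charmatrix_apply_ne _ _ _ hij, map_sub]
          ring
      rw [e]
      exact neg_mem (hC 1 _ (h i j))
  rw [Fintype.card_fin] at h1 h2
  refine ⟨h1 j, ?_⟩
  have := h2 j
  rwa [Polynomial.coeff_sub] at this

end Degree

section Count

variable {F : Type*} [Field F] [Fintype F] {n : ℕ}

open MvPolynomial

/-- The positions strictly right of the antidiagonal. -/
abbrev Pos (n : ℕ) : Type := {q : Fin n × Fin n // q.1.rev < q.2}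

theorem card_Pos : Fintype.card (Pos n) = ∑ i ∈ Finset.range (n - 1), (n - 1 - i) := by
  have e1 : Fintype.card (Pos n) = Fintype.card {q : Fin n × Fin n // q.1 < q.2} :=
    Fintype.card_congr ((Fin.revPerm.prodCongr (Equiv.refl _)).subtypeEquiv fun q => Iff.rfl)
  let e : {q : Fin n × Fin n // q.1 < q.2} ≃ Σ j : Fin n, Fin (j : ℕ) :=
    { toFun := fun q => ⟨q.1.2, ⟨q.1.1, q.2⟩⟩
      invFun := fun s => ⟨(⟨s.2, s.2.2.trans s.1.2⟩, s.1), s.2.2⟩
      left_inv := fun q => rfl
      right_inv := fun s => rfl }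
  rw [e1, Fintype.card_congr e, Fintype.card_sigma]
  simp only [Fintype.card_fin]
  rcases n with - | m
  · rfl
  rw [Fin.sum_univ_eq_sum_range (fun i => i) (m + 1), ← Finset.sum_range_reflect (fun i => i) (m + 1),
    Finset.sum_range_succ]
  simp

/-- The generic anti-triangular matrix with antidiagonal `s`. -/
noncomputable def genMat (s : Fin n → F) : Matrix (Fin n) (Fin n) (MvPolynomial (Pos n) F) :=
  Matrix.of fun i j => if h : i.rev < j then X ⟨(i, j), h⟩ else if j = i.rev then C (s i) else 0

/-- An anti-triangular matrix with antidiagonal `s`. -/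
def antiMat (s : Fin n → F) (V : Pos n → F) : Matrix (Fin n) (Fin n) F :=
  Matrix.of fun i j => if h : i.rev < j then V ⟨(i, j), h⟩ else if j = i.rev then s i else 0

theorem genMat_map (s : Fin n → F) (V : Pos n → F) :
    (genMat s).map (eval V) = antiMat s V := by
  ext i j
  simp only [Matrix.map_apply, genMat, antiMat, Matrix.of_apply]
  split_ifs <;> simp

theorem charpoly_antiMat (s : Fin n → F) (V : Pos n → F) (j : ℕ) :
    (antiMat s V).charpoly.coeff j = eval V ((genMat s).charpoly.coeff j) := by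
  rw [← genMat_map, Matrix.charpoly_map, Polynomial.coeff_map]

theorem genMat_mem (s : Fin n → F) (i j : Fin n) : genMat s i j ∈ LD (Pos n) 2 := by
  simp only [genMat, Matrix.of_apply]
  split_ifs
  · exact X_mem_LD _ _
  · exact LD_mono _ (by norm_num) (C_mem_LD _ _)
  · exact zero_mem _

theorem genMat_sub_mem (s t : Fin n → F) (i j : Fin n) :
    genMat s i j - genMat t i j ∈ LD (Pos n) 1 := by
  simp only [genMat, Matrix.of_apply]
  split_ifs
  · rw [sub_self]; exact zero_mem _
  · exact sub_mem (C_mem_LD _ _) (C_mem_LD _ _)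
  · rw [sub_self]; exact zero_mem _

/-- The middle coefficients of the characteristic polynomial. -/
noncomputable def mid (M : Matrix (Fin n) (Fin n) F) : Fin (n - 1) → F := fun i =>
  M.charpoly.coeff (i.val + 1)

open scoped Classical in
theorem count_congr (hn : 2 ≤ n) (s t : Fin n → F) (a : Fin (n - 1) → F) :
    ((univ.filter fun V : Pos n → F => mid (antiMat s V) = a).card : F) =
      ((univ.filter fun V : Pos n → F => mid (antiMat t V) = a).card : F) := by
  set q := Fintype.card F with hq
  set c : (Fin n → F) → Fin (n - 1) → MvPolynomial (Pos n) F :=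
    fun s i => (genMat s).charpoly.coeff (i.val + 1) - C (a i) with hc
  set P : (Fin n → F) → MvPolynomial (Pos n) F := fun s => ∏ i, (1 - c s i ^ (q - 1)) with hP
  have heval : ∀ s, ((univ.filter fun V : Pos n → F => mid (antiMat s V) = a).card : F) =
      ∑ V : Pos n → F, eval V (P s) := fun s => by
    rw [Finset.natCast_card_filter]
    refine Finset.sum_congr rfl fun V _ => ?_
    simp only [hP, hc, map_prod, map_sub, map_one, map_pow, eval_C, ← charpoly_antiMat]
    split_ifs with h
    · refine (Finset.prod_eq_one fun i _ => ?_).symm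
      rw [← h]
      simp only [mid, sub_self]
      rw [zero_pow (Nat.sub_ne_zero_of_lt Fintype.one_lt_card), sub_zero]
    · obtain ⟨i, hi⟩ := Function.ne_iff.mp h
      refine (Finset.prod_eq_zero (Finset.mem_univ i) ?_).symm
      rw [hq, FiniteField.pow_card_sub_one_eq_one _ (sub_ne_zero.mpr hi : (antiMat s V).charpoly.coeff (i.val + 1) - a i ≠ 0), sub_self]
  rw [heval, heval, ← sub_eq_zero, ← Finset.sum_sub_distrib]
  simp only [← map_sub]
  refine MvPolynomial.sum_eval_eq_zero (P s - P t) ?_
  set d : Fin (n - 1) → ℕ := fun i => n - 1 - i.val with hd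
  have hmem : ∀ s i, c s i ∈ LD (Pos n) (d i + 1) := fun s i => by
    refine sub_mem ?_ (LD_mono _ (by omega) (C_mem_LD _ _))
    have := (charpoly_coeff_mem (Pos n) _ _ (genMat_mem s) (genMat_mem s) (genMat_sub_mem s s)
      (i.val + 1)).1
    exact LD_mono _ (by simp only [hd]; omega) this
  have hsub : ∀ i, c s i - c t i ∈ LD (Pos n) (d i) := fun i => by
    have := (charpoly_coeff_mem (Pos n) _ _ (genMat_mem s) (genMat_mem t) (genMat_sub_mem s t)
      (i.val + 1)).2
    simp only [hc, sub_sub_sub_cancel_right]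
    exact LD_mono _ (by simp only [hd]; omega) this
  have hpow : ∀ s i, c s i ^ (q - 1) ∈ LD (Pos n) ((q - 1) * d i + 1) := fun s i => by
    have := (mvFilt (Pos n) (F := F)).prod_mem (Finset.range (q - 1)) (fun _ => c s i) (fun _ => d i)
      fun _ _ => hmem s i
    rw [Finset.prod_const, Finset.card_range, Finset.sum_const, Finset.card_range, smul_eq_mul] at this
    exact this
  have hpsub : ∀ i, c s i ^ (q - 1) - c t i ^ (q - 1) ∈ LD (Pos n) ((q - 1) * d i) := fun i => by
    have := (mvFilt (Pos n) (F := F)).prod_sub_mem (Finset.range (q - 1)) (fun _ => c s i)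
      (fun _ => c t i) (fun _ => d i) (fun _ _ => hmem s i) (fun _ _ => hmem t i) fun _ _ => hsub i
    rw [Finset.prod_const, Finset.prod_const, Finset.card_range, Finset.sum_const, Finset.card_range,
      smul_eq_mul] at this
    exact this
  have hone : (1 : MvPolynomial (Pos n) F) ∈ LD (Pos n) 1 := (mvFilt (Pos n)).one_mem
  have hdiff := (mvFilt (Pos n) (F := F)).prod_sub_mem univ (fun i => 1 - c s i ^ (q - 1))
    (fun i => 1 - c t i ^ (q - 1)) (fun i => (q - 1) * d i)
    (fun i _ => sub_mem (LD_mono _ (by omega) hone) (hpow s i))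
    (fun i _ => sub_mem (LD_mono _ (by omega) hone) (hpow t i))
    (fun i _ => by
      rw [show (1 - c s i ^ (q - 1)) - (1 - c t i ^ (q - 1)) = -(c s i ^ (q - 1) - c t i ^ (q - 1)) by
        ring]
      exact neg_mem (hpsub i))
  rw [← Finset.mul_sum] at hdiff
  rw [card_Pos, ← Fin.sum_univ_eq_sum_range (fun i => n - 1 - i) (n - 1)]
  have hpos : 0 < (q - 1) * ∑ i : Fin (n - 1), d i := by
    refine Nat.mul_pos (Nat.sub_pos_of_lt Fintype.one_lt_card) ?_
    exact Finset.sum_pos (fun i _ => by simp only [hd]; omega) ⟨⟨0, by omega⟩, Finset.mem_univ _⟩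
  rw [MvPolynomial.totalDegree, Finset.sup_lt_iff hpos]
  exact fun m hm => hdiff m (MvPolynomial.mem_support_iff.mp hm)

end Count

end CfsgLib.SLBlocks
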