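import Cfsg.Agent.Lib.Blocks.GroupRing
import Cfsg.Agent.Lib.Blocks.Green
import Cfsg.Agent.Lib.Char.DefectZeroMod

/-!
Idempotents modulo `p` of characters of defect zero, multiplied by the sum of a `p`-subgroup.
-/

set_option autoImplicit false
set_option linter.unusedSectionVars false

namespace CfsgLib.SLBlocks

open Cfsg CfsgLib.Char CfsgLib.Blocks
open MonoidAlgebra (single)
open scoped ComplexConjugate

variable {G : Type*} [Group G] [Fintype G] {p : ℕ} {M : Ideal AlgInt}

/-- An irreducible character whose degree is divisible by the `p`-part of the order. -/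
def DZ (p : ℕ) (χ : IrrCharacter G) : Prop :=
  (Nat.card G).factorization p ≤ (charDegree (χ : G → ℂ)).factorization p

theorem DZ.exists_eq {χ : IrrCharacter G} (hp : p.Prime) (hχ : DZ p χ) :
    ∃ d c : ℕ, (χ : G → ℂ) 1 = d ∧ 0 < d ∧ Nat.card G = d * c ∧ ¬ p ∣ c := by
  obtain ⟨d, hd, hd0, c, hc⟩ := exists_degree_dvd_card χ.2
  refine ⟨d, c, hd, hd0, hc, fun hpc => ?_⟩
  have hdeg : charDegree (χ : G → ℂ) = d := by
    rw [charDegree, hd, Complex.natCast_re, Nat.floor_natCast]
  rw [DZ, hdeg] at hχ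
  have h1 : p ^ ((Nat.card G).factorization p + 1) ∣ Nat.card G := by
    rw [pow_succ]
    conv_rhs => rw [hc]
    exact mul_dvd_mul ((hp.pow_dvd_iff_le_factorization hd0.ne').mpr hχ) hpc
  have := (hp.pow_dvd_iff_le_factorization Nat.card_pos.ne').1 h1
  omega

theorem blockCoeff_singleton (χ : IrrCharacter G) (g : G) :
    blockCoeff {χ} g = DefectMod.idem (χ : G → ℂ) g := by
  rw [blockCoeff, finsum_mem_singleton, DefectMod.idem, CfsgLib.Blocks.irr_value_inv χ.2]
  ring

variable [M.IsPrime] (hM : IsPModular p M) {χ : IrrCharacter G} (hχ : DZ p χ)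
include hM hχ

theorem memLocalRing_idem (g : G) : MemLocalRing M (DefectMod.idem (χ : G → ℂ) g) := by
  obtain ⟨d, c, hd, hd0, hc, hpc⟩ := hχ.exists_eq hM.1
  have : (d : ℂ) ≠ 0 := Nat.cast_ne_zero.mpr hd0.ne'
  rw [DefectMod.idem, hd, hc, Nat.cast_mul, show (d : ℂ) / ((d : ℂ) * c) = (c : ℂ)⁻¹ by field_simp]
  exact memLocalRing_mul (memLocalRing_natCast_inv hM hpc)
    (memLocalRing_of_isIntegral (irr_isIntegral χ.2 _))

theorem blockOf_singleton : blockOf M (χ : G → ℂ) = {χ} := by
  classical
  have hmem : indVec {χ} ∈ ZO M G := fun g => by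
    rw [ofOmega_indVec, blockCoeff_singleton]
    exact memLocalRing_idem hM hχ g
  refine Set.eq_singleton_iff_unique_mem.mpr ⟨mem_blockOf_self χ, fun ψ hψ => ?_⟩
  by_contra hne
  have h := ZO_congr (mem_blockOf_iff.mp hψ) hmem
  rw [indVec_of_mem (Set.mem_singleton χ), indVec_of_notMem (by simpa using hne), sub_zero] at h
  exact not_memLocalIdeal_one h

theorem blockDefect_singleton : blockDefect p ({χ} : Set (IrrCharacter G)) = 0 := by
  rw [blockDefect, Set.image_singleton, csInf_singleton]
  exact Nat.sub_eq_zero_of_le hχ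

theorem exists_idem_ne_zero :
    ∃ g : G, res M (DefectMod.idem (χ : G → ℂ) g) ≠ 0 := by
  have hB : IsPBlock M ({χ} : Set (IrrCharacter G)) := ⟨χ, (blockOf_singleton hM hχ).symm⟩
  obtain ⟨g, hg⟩ := exists_isDefectClass hM hB
  refine ⟨g, fun h => hg.2.1 ?_⟩
  rw [blockCoeff_singleton]
  exact (res_eq_zero_iff (memLocalRing_idem hM hχ g)).mp h

theorem idem_eq_zero {x : G}
    (hx : p ∣ Nat.card (Subgroup.centralizer ({x} : Set G))) :
    res M (DefectMod.idem (χ : G → ℂ) x) = 0 := by
  refine res_eq_zero ?_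
  obtain ⟨d, c, hd, hd0, hc, hpc⟩ := hχ.exists_eq hM.1
  have hcen : Subgroup.centralizer ({x⁻¹} : Set G) = Subgroup.centralizer ({x} : Set G) :=
    centralizer_singleton_inv x
  obtain ⟨m, hm⟩ := hx
  have hci := (Subgroup.centralizer ({x} : Set G)).card_mul_index
  have hidx : (Nat.card (Subgroup.centralizer ({x} : Set G)) : ℂ) *
      ((Subgroup.centralizer ({x} : Set G)).index : ℂ) = (d : ℂ) * c := by
    rw [← Nat.cast_mul, hci, hc, Nat.cast_mul]
  have hd' : (d : ℂ) ≠ 0 := Nat.cast_ne_zero.mpr hd0.ne'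
  have hc' : (c : ℂ) ≠ 0 := Nat.cast_ne_zero.mpr fun e => hpc (e ▸ dvd_zero p)
  have hI : ((Subgroup.centralizer ({x} : Set G)).index : ℂ) ≠ 0 :=
    Nat.cast_ne_zero.mpr Subgroup.index_ne_zero_of_finite
  have e : DefectMod.idem (χ : G → ℂ) x =
      (p : ℂ) * ((m : ℂ) * centralChar (χ : G → ℂ) x⁻¹ * ((c : ℂ)⁻¹ * (c : ℂ)⁻¹)) := by
    rw [DefectMod.idem, centralChar, hcen, hd, hc, Nat.cast_mul]
    rw [hm, Nat.cast_mul] at hidx
    field_simp
    linear_combination (-((χ : G → ℂ) x⁻¹)) * hidx
  rw [e]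
  exact memLocalIdeal_mul_right (memLocalIdeal_p hM) (memLocalRing_mul (memLocalRing_mul
    (memLocalRing_natCast m) (memLocalRing_centralChar χ _))
    (memLocalRing_mul (memLocalRing_natCast_inv hM hpc) (memLocalRing_natCast_inv hM hpc)))

omit hM hχ

/-- The idempotent of a character modulo the ideal, in the group algebra. -/
noncomputable def eAlg (χ : IrrCharacter G) : MonoidAlgebra (ResField M) G :=
  ∑ x, single x (res M (DefectMod.idem (χ : G → ℂ) x))

theorem coeff_eAlg (χ : IrrCharacter G) (x : G) :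
    (eAlg (M := M) χ).coeff x = res M (DefectMod.idem (χ : G → ℂ) x) := by
  classical
  simp [eAlg, MonoidAlgebra.coeff_sum, Finsupp.finsetSum_apply, Finsupp.single_apply]

theorem coeff_eAlg_conj (χ : IrrCharacter G) (g x : G) :
    (eAlg (M := M) χ).coeff (g * x * g⁻¹) = (eAlg (M := M) χ).coeff x := by
  have h := isClassFunction_of_isCharacter (isCharacter_of_isIrr χ.2) x⁻¹ g
  rw [coeff_eAlg, coeff_eAlg, DefectMod.idem, DefectMod.idem, mul_inv_rev, mul_inv_rev, inv_inv,
    ← mul_assoc, h]

theorem eAlg_central (χ : IrrCharacter G) (g : G) :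
    single g 1 * eAlg (M := M) χ = eAlg (M := M) χ * single g 1 := by
  ext x
  rw [MonoidAlgebra.coeff_single_mul_apply, MonoidAlgebra.coeff_mul_single_apply, one_mul, mul_one,
    ← coeff_eAlg_conj χ g (g⁻¹ * x)]
  group

include hM

theorem eAlg_mul {ψ : IrrCharacter G} (hχ : DZ p χ) (hψ : DZ p ψ) :
    eAlg (M := M) χ * eAlg (M := M) ψ =
      open scoped Classical in if χ = ψ then eAlg (M := M) χ else 0 := by
  classical
  ext z
  rw [Green.coeff_mul]
  simp only [coeff_eAlg]
  rw [Finset.sum_congr rfl fun u _ =>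
      (res_mul (memLocalRing_idem hM hχ u) (memLocalRing_idem hM hψ _)).symm,
    ← res_sum _ _ (fun u _ => memLocalRing_mul (memLocalRing_idem hM hχ u)
      (memLocalRing_idem hM hψ _)), DefectMod.idem_orth]
  split_ifs
  · rw [coeff_eAlg]
  · rw [res_zero]; simp

omit hM

variable [hp : Fact p.Prime]

/-- The product of the idempotent with the sum of a subgroup. -/
noncomputable def eHat (χ : IrrCharacter G) (U : Subgroup G) [Fintype U] :
    MonoidAlgebra (ResField M) G :=
  eAlg (M := M) χ * Green.hat U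

theorem coeff_eHat (χ : IrrCharacter G) (U : Subgroup G) [Fintype U] (g : G) :
    (eHat (M := M) χ U).coeff g = ∑ u : U, (eAlg (M := M) χ).coeff (g * (u : G)) := by
  rw [eHat, Green.hat, Finset.mul_sum, MonoidAlgebra.coeff_sum, Finsupp.finsetSum_apply]
  refine Fintype.sum_equiv (Equiv.inv U) _ _ fun u => ?_
  simp [MonoidAlgebra.coeff_mul_single_apply]

theorem coeff_eHat_mul_right (χ : IrrCharacter G) (U : Subgroup G) [Fintype U] (g : G) {u : G}
    (hu : u ∈ U) : (eHat (M := M) χ U).coeff (g * u) = (eHat (M := M) χ U).coeff g := by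
  rw [coeff_eHat, coeff_eHat]
  exact Fintype.sum_equiv (Equiv.mulLeft ⟨u, hu⟩) _ _ fun v => by simp [mul_assoc]

theorem coeff_eHat_mul_left (χ : IrrCharacter G) (U : Subgroup G) [Fintype U] (g : G) {u : G}
    (hu : u ∈ U) : (eHat (M := M) χ U).coeff (u * g) = (eHat (M := M) χ U).coeff g := by
  rw [coeff_eHat, coeff_eHat]
  refine Fintype.sum_equiv (Equiv.mulRight ⟨u, hu⟩) _ _ fun v => ?_
  rw [← coeff_eAlg_conj χ u⁻¹ (u * g * (v : G))]
  simp [mul_assoc]

include hM

theorem coeff_eHat_eq_zero (hχ : DZ p χ) {U : Subgroup G} [Fintype U] (hU : IsPGroup p U) {g r : G}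
    (hr : r ∈ U) (hr1 : r ≠ 1) (hgr : g⁻¹ * r * g ∈ U) : (eHat (M := M) χ U).coeff g = 0 := by
  classical
  have := charP_resField hM
  rw [coeff_eHat]
  let r' : U := ⟨r, hr⟩
  let act : MulAction (Subgroup.zpowers r') {y : G // g⁻¹ * y ∈ U} :=
    { smul := fun k y => ⟨(k : U) * y.1 * ((k : U) : G)⁻¹, by
        obtain ⟨i, hi⟩ := Subgroup.mem_zpowers_iff.mp k.2
        have h1 : ((k : U) : G) = r ^ i := by rw [← hi, SubgroupClass.coe_zpow]
        have h2 : g⁻¹ * ((k : U) : G) * g ∈ U := by
          rw [h1, show g⁻¹ * r ^ i * g = (g⁻¹ * r * g) ^ i by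
            simpa using (conj_zpow (a := g⁻¹) (b := r) (i := i)).symm]
          exact zpow_mem hgr i
        have := mul_mem (mul_mem h2 y.2) (inv_mem ((k : U)).2)
        convert this using 1
        group⟩
      one_smul := fun y => Subtype.ext (by show _ * y.1 * _ = y.1; simp)
      mul_smul := fun k l y => Subtype.ext (by
        show ((k * l : Subgroup.zpowers r') : U).1 * y.1 * ((k * l : Subgroup.zpowers r') : U).1⁻¹ = _
        simp only [Subgroup.coe_mul]
        show _ = ((k : U) : G) * (((l : U) : G) * y.1 * ((l : U) : G)⁻¹) * ((k : U) : G)⁻¹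
        group) }
  let ev : U ≃ {y : G // g⁻¹ * y ∈ U} :=
    { toFun := fun u => ⟨g * (u : G), by rw [inv_mul_cancel_left]; exact u.2⟩
      invFun := fun y => ⟨g⁻¹ * y.1, y.2⟩
      left_inv := fun u => Subtype.ext (inv_mul_cancel_left g (u : G))
      right_inv := fun y => Subtype.ext (mul_inv_cancel_left g y.1) }
  rw [Fintype.sum_equiv ev
      (fun u => (eAlg (M := M) χ).coeff (g * (u : G))) (fun y => (eAlg (M := M) χ).coeff y.1)
      fun u => rfl]
  rw [GrpRing.sum_eq_sum_fixed (p := p) (Q := Subgroup.zpowers r') (hU.to_subgroup _)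
    (fun q y => coeff_eAlg_conj χ ((q : U) : G) y.1)]
  refine Finset.sum_eq_zero fun y hy => ?_
  rw [Finset.mem_filter] at hy
  have hfix := congrArg Subtype.val (hy.2 ⟨r', Subgroup.mem_zpowers r'⟩)
  rw [coeff_eAlg]
  refine idem_eq_zero hM hχ ?_
  have hrc : r ∈ Subgroup.centralizer ({y.1} : Set G) := by
    rw [Subgroup.mem_centralizer_singleton_iff]
    exact mul_inv_eq_iff_eq_mul.mp hfix
  obtain ⟨k, hk⟩ := IsPGroup.iff_orderOf.mp hU r'
  have hpr : p ∣ orderOf r := by
    rw [show r = (r' : G) from rfl, Subgroup.orderOf_coe, hk]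
    exact dvd_pow_self p fun h0 => hr1 (congrArg Subtype.val
      (orderOf_eq_one_iff.mp (by rw [hk, h0, pow_zero]) : r' = 1))
  exact hpr.trans ((Subgroup.orderOf_mk r hrc).symm ▸ orderOf_dvd_natCard _)

theorem eHat_ne_zero (hχ : DZ p χ) {U : Subgroup G} [Fintype U] (hU : IsPGroup p U) :
    eHat (M := M) χ U ≠ 0 := by
  classical
  intro h0
  have := charP_resField hM
  set e := eAlg (M := M) χ
  have hcen := eAlg_central (M := M) χ
  have hee : e * e = e := by rw [eAlg_mul hM hχ hχ, if_pos rfl]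
  have hne : e ≠ 0 := fun he => by
    obtain ⟨g, hg⟩ := exists_idem_ne_zero hM hχ
    exact hg (by rw [← coeff_eAlg, show eAlg (M := M) χ = 0 from he]; simp)
  -- `e` is a trace from the trivial subgroup
  have : Fintype (ConjClasses G) := Fintype.ofFinite _
  obtain ⟨a, ha⟩ : ∃ a : MonoidAlgebra (ResField M) G, a = ∑ c : ConjClasses G,
      single (Quotient.out c) (e.coeff (Quotient.out c) *
        (Nat.card (Subgroup.centralizer ({Quotient.out c} : Set G)) : ResField M)⁻¹) := ⟨_, rfl⟩
  have htr : ∑ g : G, single g⁻¹ 1 * a * single g 1 = e := by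
    ext x
    simp only [ha, Finset.mul_sum, Finset.sum_mul, MonoidAlgebra.single_mul_single, one_mul,
      mul_one, MonoidAlgebra.coeff_sum, Finsupp.finsetSum_apply, MonoidAlgebra.coeff_single,
      Finsupp.single_apply]
    rw [Finset.sum_comm]
    obtain ⟨c₀, hc₀⟩ : ∃ c₀, c₀ = ConjClasses.mk x := ⟨_, rfl⟩
    have hmk : ∀ c : ConjClasses G, ConjClasses.mk (Quotient.out c) = c := Quotient.out_eq
    rw [Finset.sum_eq_single_of_mem c₀ (Finset.mem_univ _)]
    · obtain ⟨o, ho⟩ : ∃ o, o = Quotient.out c₀ := ⟨_, rfl⟩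
      rw [← ho]
      have hox : IsConj o x := ConjClasses.mk_eq_mk_iff_isConj.mp (by rw [ho, hmk, hc₀])
      obtain ⟨u, hu⟩ := isConj_iff.mp hox
      have hcard : (Finset.univ.filter fun g : G => g⁻¹ * o * g = x).card =
          Nat.card (Subgroup.centralizer ({o} : Set G)) := by
        rw [Nat.card_eq_fintype_card, Fintype.card_subtype]
        refine Finset.card_bij' (fun g _ => g * u) (fun z _ => z * u⁻¹) ?_ ?_ ?_ ?_
        · intro g hg
          simp only [Finset.mem_filter, Finset.mem_univ, true_and,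
            Subgroup.mem_centralizer_singleton_iff] at hg ⊢
          calc g * u * o = g * (u * o * u⁻¹) * u := by group
            _ = o * (g * u) := by rw [hu, ← hg]; group
        · intro z hz
          simp only [Finset.mem_filter, Finset.mem_univ, true_and,
            Subgroup.mem_centralizer_singleton_iff] at hz ⊢
          calc (z * u⁻¹)⁻¹ * o * (z * u⁻¹) = u * (z⁻¹ * (o * z)) * u⁻¹ := by group
            _ = u * o * u⁻¹ := by rw [← hz, inv_mul_cancel_left]
            _ = x := hu
        · intro g _; group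
        · intro z _; group
      rw [← Finset.sum_filter, Finset.sum_const, hcard, nsmul_eq_mul,
        show e.coeff x = e.coeff o by rw [← hu, coeff_eAlg_conj]]
      by_cases h1 : e.coeff o = 0
      · simp [h1]
      · have hn : (Nat.card (Subgroup.centralizer ({o} : Set G)) : ResField M) ≠ 0 := fun h => by
          refine h1 ?_
          rw [coeff_eAlg]
          exact idem_eq_zero hM hχ ((CharP.cast_eq_zero_iff (ResField M) p _).mp h)
        rw [mul_comm, mul_assoc, inv_mul_cancel₀ hn, mul_one]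
    · intro c _ hc
      refine Finset.sum_eq_zero fun g _ => if_neg fun h => hc ?_
      rw [hc₀, ← hmk c, ConjClasses.mk_eq_mk_iff_isConj]
      exact isConj_iff.mpr ⟨g⁻¹, by rw [inv_inv]; exact h⟩
  -- a vector of the ideal of `e` fixed by `U` on the right
  have hp0 : ∀ w : MonoidAlgebra (ResField M) G, p • w = 0 := fun w => by
    rw [← Nat.cast_smul_eq_nsmul (ResField M) p w, CharP.cast_eq_zero, zero_smul]
  let act : U → MonoidAlgebra (ResField M) G →+ MonoidAlgebra (ResField M) G := fun u =>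
    AddMonoidHom.mulRight (single ((u : G))⁻¹ 1)
  have hact : ∀ u w, act u w = w * single ((u : G))⁻¹ 1 := fun _ _ => rfl
  let K : AddSubgroup (MonoidAlgebra (ResField M) G) :=
    { carrier := {w | e * w = w}
      zero_mem' := mul_zero _
      add_mem' := fun {v w} hv hw => by
        show e * (v + w) = v + w
        rw [mul_add, show e * v = v from hv, show e * w = w from hw]
      neg_mem' := fun {v} hv => by
        show e * -v = -v
        rw [mul_neg, show e * v = v from hv] }
  obtain ⟨v, hv, hv0, hfix⟩ :=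
    @Green.exists_fixed_ne_zero p _ (MonoidAlgebra (ResField M) G) _ (AddCommGroup.zmodModule hp0) U _ _
      hU act (AddMonoidHom.ext fun w => by simp [hact, ← MonoidAlgebra.one_def])
      (fun q q' w => by simp [hact, mul_assoc])
      K e hne (fun q => by
        show e * act q e = act q e
        rw [hact, ← mul_assoc, hee])
  have hright : ∀ s : U, v * single (s : G) 1 = v := fun s => by
    simpa [hact] using hfix s⁻¹
  have : Fintype (G ⧸ U) := Fintype.ofFinite _
  obtain ⟨Z, hZ⟩ : ∃ Z : MonoidAlgebra (ResField M) G,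
      Z = ∑ q : G ⧸ U, single (Quotient.out q)⁻¹ 1 * a * single (Quotient.out q) 1 := ⟨_, rfl⟩
  have hvZ : v * e = v * Z * Green.hat U := by
    conv_lhs => rw [← htr, Green.sum_coset U]
    simp only [Green.hat, hZ, Finset.sum_mul, Finset.mul_sum]
    conv_lhs => rw [Finset.sum_comm]
    refine Finset.sum_congr rfl fun k _ => Finset.sum_congr rfl fun q _ => ?_
    rw [mul_inv_rev, show single ((k : G)⁻¹ * (Quotient.out q)⁻¹) (1 : ResField M) =
        single (k : G)⁻¹ 1 * single (Quotient.out q)⁻¹ 1 by simp,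
      show single (Quotient.out q * (k : G)) (1 : ResField M) =
        single (Quotient.out q) 1 * single (k : G) 1 by simp,
      show (k : G)⁻¹ = ((k⁻¹ : U) : G) from rfl]
    simp only [← mul_assoc]
    rw [hright]
  apply hv0
  have hve : v * e = v := by rw [Green.single_mul_hat_comm hcen v]; exact hv
  have h1 : v = v * Z * e * Green.hat U := by
    calc v = e * (v * e) := by rw [hve]; exact hv.symm
      _ = e * (v * Z * Green.hat U) := by rw [hvZ]
      _ = e * (v * Z) * Green.hat U := by simp only [mul_assoc]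
      _ = v * Z * e * Green.hat U := by rw [Green.single_mul_hat_comm hcen (v * Z)]
  rw [h1, mul_assoc _ e, show e * Green.hat U = 0 from h0, mul_zero]

end CfsgLib.SLBlocks
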