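import Cfsg.Agent.Lib.AutPSL.Sylow
import Cfsg.Agent.Lib.Classical.SemisimpleCount
import Cfsg.Agent.Lib.Unipotent.Bruhat
import Cfsg.Agent.Lib.Char.Table
import Cfsg.Agent.Lib.SLBlocks.Count
import Cfsg.Agent.Lib.SLBlocks.Idem

/-!
`SL(n, F)` has at most one character of defect zero in the defining characteristic.
-/

set_option autoImplicit false
set_option linter.unusedSectionVars false

namespace CfsgLib.SLBlocks

open Matrix Cfsg CfsgLib.Blocks
open scoped MatrixGroups

variable {F : Type*} [Field F] [Fintype F] [DecidableEq F] {n : ℕ}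
variable {p : ℕ} [hp : Fact p.Prime] [CharP F p] {M : Ideal AlgInt} [M.IsPrime]

/-- The coefficient of the idempotent, as a function on all matrices. -/
noncomputable def eMat (χ : IrrCharacter SL(n, F)) (A : Matrix (Fin n) (Fin n) F) : ResField M :=
  if h : A.det = 1 then (eAlg (M := M) χ).coeff ⟨A, h⟩ else 0

theorem charpoly_eq_of_mid {x y : SL(n, F)}
    (h : mid (x : Matrix (Fin n) (Fin n) F) = mid (y : Matrix (Fin n) (Fin n) F)) :
    (x : Matrix (Fin n) (Fin n) F).charpoly = (y : Matrix (Fin n) (Fin n) F).charpoly := by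
  have hdeg : ∀ z : SL(n, F), (z : Matrix (Fin n) (Fin n) F).charpoly.natDegree = n := fun z => by
    rw [Matrix.charpoly_natDegree_eq_dim, Fintype.card_fin]
  ext j
  rcases Nat.eq_zero_or_pos j with rfl | hj
  · have hx := Matrix.det_eq_sign_charpoly_coeff (x : Matrix (Fin n) (Fin n) F)
    have hy := Matrix.det_eq_sign_charpoly_coeff (y : Matrix (Fin n) (Fin n) F)
    rw [x.2] at hx
    rw [y.2] at hy
    exact mul_left_cancel₀ (pow_ne_zero _ (neg_ne_zero.mpr one_ne_zero)) (hx.symm.trans hy)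
  rcases lt_trichotomy j n with hlt | rfl | hgt
  · have h1 := congrFun h ⟨j - 1, by omega⟩
    simp only [mid] at h1
    rwa [Nat.sub_add_cancel hj] at h1
  · have hx := (Matrix.charpoly_monic (x : Matrix (Fin j) (Fin j) F)).coeff_natDegree
    have hy := (Matrix.charpoly_monic (y : Matrix (Fin j) (Fin j) F)).coeff_natDegree
    rw [hdeg] at hx hy
    rw [hx, hy]
  · rw [Polynomial.coeff_eq_zero_of_natDegree_lt (by rw [hdeg]; exact hgt),
      Polynomial.coeff_eq_zero_of_natDegree_lt (by rw [hdeg]; exact hgt)]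

include hp

/-- An element with regular centralizer is conjugate to all elements with the same characteristic
polynomial. -/
theorem isConj_of_regular {x y : SL(n, F)}
    (hx : ¬ p ∣ Nat.card (Subgroup.centralizer ({x} : Set SL(n, F))))
    (h : (x : Matrix (Fin n) (Fin n) F).charpoly = (y : Matrix (Fin n) (Fin n) F).charpoly) :
    IsConj x y := by
  classical
  have hord : ∀ z w : SL(n, F), z ∈ Subgroup.centralizer ({w} : Set SL(n, F)) →
      ¬ p ∣ Nat.card (Subgroup.centralizer ({w} : Set SL(n, F))) → (orderOf z).Coprime p :=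
    fun z w hz hw => (hp.out.coprime_iff_not_dvd.mpr fun hd =>
      hw (hd.trans ((Subgroup.orderOf_mk z hz).symm ▸ orderOf_dvd_natCard _))).symm
  have hxo : (orderOf x).Coprime p :=
    hord x x (Subgroup.mem_centralizer_singleton_iff.mpr rfl) hx
  have hpow : ∀ j : ℕ, ((y ^ (Fintype.card F) ^ j : SL(n, F)) : Matrix (Fin n) (Fin n) F).charpoly =
      (y : Matrix (Fin n) (Fin n) F).charpoly := by
    intro j
    induction j with
    | zero => rw [pow_zero, pow_one]
    | succ j ih =>
      rw [pow_succ, pow_mul, Matrix.SpecialLinearGroup.coe_pow,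
        FiniteField.Matrix.charpoly_pow_card, ih]
  obtain ⟨a, m, hpm, ham⟩ := Nat.exists_eq_pow_mul_and_not_dvd (orderOf_pos y).ne' p hp.out.ne_one
  obtain ⟨k, -, hk⟩ := FiniteField.card F p
  obtain ⟨c, hc⟩ : p ^ a ∣ Fintype.card F ^ a := pow_dvd_pow_of_dvd (hk ▸ dvd_pow_self p k.ne_zero) a
  set z := y ^ Fintype.card F ^ a with hz
  have hzo : (orderOf z).Coprime p := by
    refine Nat.Coprime.coprime_dvd_left (orderOf_dvd_of_pow_eq_one ?_)
      (hp.out.coprime_iff_not_dvd.mpr hpm).symm
    rw [hz, ← pow_mul, hc, mul_right_comm, ← ham, pow_mul, pow_orderOf_eq_one, one_pow]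
  have hxz : IsConj x z := Classical.SemisimpleCount.sl_conj_of_charpoly_eq x z hxo hzo
    (h.trans (hpow a).symm)
  have hy : y ∈ Subgroup.centralizer ({z} : Set SL(n, F)) := by
    rw [Subgroup.mem_centralizer_singleton_iff, hz]
    exact (Commute.self_pow y _).eq
  exact Classical.SemisimpleCount.sl_conj_of_charpoly_eq x y hxo
    (hord y z hy (by rwa [← Char.card_centralizer_eq_of_isConj hxz])) h

theorem sum_eMat_congr (hM : IsPModular p M) (hn : 2 ≤ n) {χ : IrrCharacter SL(n, F)}
    (hχ : DZ p χ) {s t : Fin n → F} (hs : ∀ V, (antiMat s V).det = 1)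
    (ht : ∀ V, (antiMat t V).det = 1) :
    ∑ V : Pos n → F, eMat (M := M) χ (antiMat s V) =
      ∑ V : Pos n → F, eMat (M := M) χ (antiMat t V) := by
  classical
  have := charP_resField hM
  let Φ : (Fin (n - 1) → F) → ResField M := fun a =>
    if h : ∃ y : SL(n, F), mid (y : Matrix (Fin n) (Fin n) F) = a ∧ (eAlg (M := M) χ).coeff y ≠ 0
    then (eAlg (M := M) χ).coeff (Classical.choose h) else 0
  have hΦ : ∀ (A : Matrix (Fin n) (Fin n) F), A.det = 1 → eMat (M := M) χ A = Φ (mid A) := by
    intro A hA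
    rw [eMat, dif_pos hA]
    by_cases h : ∃ y : SL(n, F), mid (y : Matrix (Fin n) (Fin n) F) = mid A ∧
        (eAlg (M := M) χ).coeff y ≠ 0
    · simp only [Φ, dif_pos h]
      obtain ⟨h1, h2⟩ := Classical.choose_spec h
      have hreg : ¬ p ∣ Nat.card (Subgroup.centralizer ({Classical.choose h} : Set SL(n, F))) :=
        fun hd => h2 (by rw [coeff_eAlg]; exact idem_eq_zero hM hχ hd)
      obtain ⟨c, hc⟩ := isConj_iff.mp (isConj_of_regular hreg
        (charpoly_eq_of_mid (y := ⟨A, hA⟩) h1))
      rw [← hc, coeff_eAlg_conj]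
    · simp only [Φ, dif_neg h]
      by_contra hne
      exact h ⟨⟨A, hA⟩, rfl, hne⟩
  have hsum : ∀ s : Fin n → F, (∀ V, (antiMat s V).det = 1) →
      ∑ V : Pos n → F, eMat (M := M) χ (antiMat s V) = ∑ a : Fin (n - 1) → F,
        ((Finset.univ.filter fun V : Pos n → F => mid (antiMat s V) = a).card : ResField M) * Φ a := by
    intro s hs
    rw [Finset.sum_congr rfl fun V _ => hΦ _ (hs V),
      ← Finset.sum_fiberwise Finset.univ (fun V : Pos n → F => mid (antiMat s V))]
    refine Finset.sum_congr rfl fun a _ => ?_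
    rw [Finset.sum_congr rfl fun V hV => by rw [(Finset.mem_filter.mp hV).2], Finset.sum_const,
      nsmul_eq_mul]
  rw [hsum s hs, hsum t ht]
  refine Finset.sum_congr rfl fun a _ => ?_
  congr 1
  exact (CharP.natCast_eq_natCast (ResField M) p).mpr
    ((CharP.natCast_eq_natCast F p).mp (by convert count_congr hn s t a))

omit hp [CharP F p] in
/-- A unipotent-torus-monomial decomposition. -/
theorem exists_bruhat_SL (g : SL(n, F)) : ∃ (σ : Equiv.Perm (Fin n)) (u₁ u₂ w : SL(n, F))
    (s : Fin n → F), u₁ ∈ AutPSL.unitri ∧ u₂ ∈ AutPSL.unitri ∧ g = u₁ * w * u₂ ∧ (∀ i, s i ≠ 0) ∧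
      ∀ i j, (w : Matrix (Fin n) (Fin n) F) i j = if i = σ j then s i else 0 := by
  obtain ⟨σ, a, b, hat, hbt, he⟩ := Unipotent.bruhat_GL (Matrix.SpecialLinearGroup.toGL g)
  set A : Matrix (Fin n) (Fin n) F := ((a⁻¹ : GL (Fin n) F) : Matrix (Fin n) (Fin n) F)
  set B : Matrix (Fin n) (Fin n) F := ((b⁻¹ : GL (Fin n) F) : Matrix (Fin n) (Fin n) F)
  have htri : ∀ c : GL (Fin n) F, (c : Matrix (Fin n) (Fin n) F).BlockTriangular id →
      ((c⁻¹ : GL (Fin n) F) : Matrix (Fin n) (Fin n) F).BlockTriangular id := fun c hc => by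
    have : Invertible (c : Matrix (Fin n) (Fin n) F) := c.invertible
    rw [Matrix.coe_units_inv]
    exact Matrix.blockTriangular_inv_of_blockTriangular hc
  have hAt := htri a hat
  have hBt := htri b hbt
  have hdiag : ∀ c : GL (Fin n) F, (c : Matrix (Fin n) (Fin n) F).BlockTriangular id → ∀ i,
      (c : Matrix (Fin n) (Fin n) F) i i ≠ 0 := fun c hc i h => by
    apply c.det_ne_zero
    rw [Matrix.det_of_isUpperTriangular hc]
    exact Finset.prod_eq_zero (Finset.mem_univ i) h
  set P : Matrix (Fin n) (Fin n) F := Matrix.of fun i j => if i = σ j then 1 else 0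
  have hg : (g : Matrix (Fin n) (Fin n) F) = A * P * B := by
    have h1 : (a⁻¹ : GL (Fin n) F) * (a * Matrix.SpecialLinearGroup.toGL g * b) * b⁻¹ =
      Matrix.SpecialLinearGroup.toGL g := by group
    have h2 := congrArg (fun x : GL (Fin n) F => (x : Matrix (Fin n) (Fin n) F)) h1
    simp only [Units.val_mul] at h2
    rw [Units.val_mul, Units.val_mul] at he
    rw [he] at h2
    exact h2.symm
  set α : Fin n → F := fun i => A i i
  set β : Fin n → F := fun i => B i i
  set U₁ : Matrix (Fin n) (Fin n) F := Matrix.of fun i j => A i j / α j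
  set U₂ : Matrix (Fin n) (Fin n) F := Matrix.of fun i j => B i j / β i
  have hU₁ : ∀ i j : Fin n, j ≤ i → U₁ i j = if i = j then 1 else 0 := fun i j hji => by
    rcases eq_or_lt_of_le hji with rfl | hlt
    · simp only [U₁, Matrix.of_apply, if_pos]
      exact div_self (hdiag _ hAt j)
    · rw [if_neg hlt.ne']
      simp only [U₁, Matrix.of_apply]
      rw [show A i j = 0 from hAt hlt, zero_div]
  have hU₂ : ∀ i j : Fin n, j ≤ i → U₂ i j = if i = j then 1 else 0 := fun i j hji => by
    rcases eq_or_lt_of_le hji with rfl | hlt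
    · simp only [U₂, Matrix.of_apply, if_pos]
      exact div_self (hdiag _ hBt j)
    · rw [if_neg hlt.ne']
      simp only [U₂, Matrix.of_apply]
      rw [show B i j = 0 from hBt hlt, zero_div]
  have hdet : ∀ U : Matrix (Fin n) (Fin n) F,
      (∀ i j : Fin n, j ≤ i → U i j = if i = j then 1 else 0) → U.det = 1 := fun U hU => by
    rw [Matrix.det_of_isUpperTriangular fun i j h => by
      rw [hU i j (le_of_lt h), if_neg (ne_of_gt (show j < i from h))]]
    exact Finset.prod_eq_one fun i _ => by rw [hU i i le_rfl, if_pos rfl]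
  set W : Matrix (Fin n) (Fin n) F :=
    Matrix.of fun i j => if i = σ j then α i * β (σ.symm i) else 0 with hW
  have hA : A = U₁ * Matrix.diagonal α := by
    ext i j
    rw [Matrix.mul_diagonal]
    exact (div_mul_cancel₀ _ (hdiag _ hAt j)).symm
  have hB : B = Matrix.diagonal β * U₂ := by
    ext i j
    rw [Matrix.diagonal_mul]
    exact (mul_div_cancel₀ _ (hdiag _ hBt i)).symm
  have hWe : Matrix.diagonal α * P * Matrix.diagonal β = W := by
    ext i j
    rw [Matrix.mul_diagonal, Matrix.diagonal_mul]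
    simp only [P, hW, Matrix.of_apply]
    split_ifs with h
    · subst h; simp
    · ring
  have hgW : (g : Matrix (Fin n) (Fin n) F) = U₁ * W * U₂ := by
    rw [hg, hA, hB, ← hWe]; simp only [Matrix.mul_assoc]
  have hWd : W.det = 1 := by
    have h := congrArg Matrix.det hgW
    rw [g.2, Matrix.det_mul, Matrix.det_mul, hdet U₁ hU₁, hdet U₂ hU₂, one_mul, mul_one] at h
    exact h.symm
  exact ⟨σ, ⟨U₁, hdet U₁ hU₁⟩, ⟨U₂, hdet U₂ hU₂⟩, ⟨W, hWd⟩, fun i => α i * β (σ.symm i),
    hU₁, hU₂, Subtype.ext hgW, fun i => mul_ne_zero (hdiag _ hAt i) (hdiag _ hBt _), fun i j => rfl⟩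

noncomputable instance fintypeUnitri : Fintype ↥(AutPSL.unitri : Subgroup SL(n, F)) :=
  Fintype.ofFinite _

theorem eHat_value (hM : IsPModular p M) (g : SL(n, F)) :
    (∀ χ : IrrCharacter SL(n, F), DZ p χ →
        (eHat (M := M) χ AutPSL.unitri).coeff g = 0) ∨
      ∃ s : Fin n → F, (∀ V, (antiMat s V).det = 1) ∧ ∀ χ : IrrCharacter SL(n, F),
        (eHat (M := M) χ AutPSL.unitri).coeff g =
          ∑ V : Pos n → F, eMat (M := M) χ (antiMat s V) := by
  classical
  have hU : IsPGroup p (AutPSL.unitri : Subgroup SL(n, F)) :=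
    IsPGroup.of_card (AutPSL.card_unitri_eq_pow p)
  obtain ⟨σ, u₁, u₂, w, s, hu₁, hu₂, hg, hs, hw⟩ := exists_bruhat_SL g
  by_cases hanti : ∀ a b : Fin n, a < b → σ.symm b < σ.symm a
  · right
    have hmono : StrictMono fun i => (σ.symm i).rev := fun a b hab => Fin.rev_lt_rev.mpr (hanti a b hab)
    have hσ : ∀ i, σ.symm i = i.rev := fun i => by
      have h : (σ.symm i).rev = i := le_antisymm (hmono.le_id i) (hmono.id_le i)
      rw [← Fin.rev_rev (σ.symm i), h]
    have hwu : ∀ u : (AutPSL.unitri : Subgroup SL(n, F)), ∀ i j,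
        ((w * (u : SL(n, F)) : SL(n, F)) : Matrix (Fin n) (Fin n) F) i j =
          s i * ((u : SL(n, F)) : Matrix (Fin n) (Fin n) F) i.rev j := fun u i j => by
      rw [Matrix.SpecialLinearGroup.coe_mul, Matrix.mul_apply, Finset.sum_eq_single i.rev]
      · rw [hw, if_pos]
        rw [← hσ, Equiv.apply_symm_apply]
      · intro k _ hk
        rw [hw, if_neg, zero_mul]
        intro h
        exact hk (by rw [← hσ, h, Equiv.symm_apply_apply])
      · intro h; exact absurd (Finset.mem_univ _) h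
    let toV : ↥(AutPSL.unitri : Subgroup SL(n, F)) → (Pos n → F) := fun u q =>
      s q.1.1 * ((u : SL(n, F)) : Matrix (Fin n) (Fin n) F) q.1.1.rev q.1.2
    have hval : ∀ u : (AutPSL.unitri : Subgroup SL(n, F)),
        ((w * (u : SL(n, F)) : SL(n, F)) : Matrix (Fin n) (Fin n) F) = antiMat s (toV u) := fun u => by
      ext i j
      rw [hwu]
      simp only [antiMat, Matrix.of_apply, toV]
      split_ifs with h1 h2
      · rfl
      · subst h2
        rw [AutPSL.mem_unitri.mp u.2 _ _ le_rfl, if_pos rfl, mul_one]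
      · rw [AutPSL.mem_unitri.mp u.2 _ _ (not_lt.mp h1), if_neg (Ne.symm h2), mul_zero]
    have hbij : Function.Bijective toV := by
      refine ⟨fun u v huv => Subtype.ext (mul_left_cancel (Subtype.ext ?_ : w * (u : SL(n, F)) = w * v)),
        fun V => ?_⟩
      · rw [hval, hval, huv]
      · refine ⟨AutPSL.unitriEquiv.symm fun r =>
          (s r.1.1.rev)⁻¹ * V ⟨(r.1.1.rev, r.1.2), by rw [Fin.rev_rev]; exact r.2⟩, funext fun q => ?_⟩
        have hq := congrFun (AutPSL.unitriEquiv.apply_symm_apply (fun r : {r : Fin n × Fin n // r.1 < r.2} =>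
          (s r.1.1.rev)⁻¹ * V ⟨(r.1.1.rev, r.1.2), by rw [Fin.rev_rev]; exact r.2⟩))
          ⟨(q.1.1.rev, q.1.2), q.2⟩
        simp only [toV]
        rw [show ∀ u : (AutPSL.unitri : Subgroup SL(n, F)),
          ((u : SL(n, F)) : Matrix (Fin n) (Fin n) F) q.1.1.rev q.1.2 =
            AutPSL.unitriEquiv u ⟨(q.1.1.rev, q.1.2), q.2⟩ from fun _ => rfl, hq]
        simp only [Fin.rev_rev]
        rw [← mul_assoc, mul_inv_cancel₀ (hs _), one_mul]
    have hdet : ∀ V, (antiMat s V).det = 1 := fun V => by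
      obtain ⟨u, rfl⟩ := hbij.2 V
      rw [← hval]
      exact (w * (u : SL(n, F))).2
    refine ⟨s, hdet, fun χ => ?_⟩
    rw [hg, coeff_eHat_mul_right χ _ _ hu₂, coeff_eHat_mul_left χ _ _ hu₁, coeff_eHat]
    refine Fintype.sum_bijective toV hbij _ _ fun u => ?_
    rw [eMat, dif_pos (hdet _)]
    exact congrArg (eAlg (M := M) χ).coeff (Subtype.ext (hval u))
  · left
    push Not at hanti
    obtain ⟨a, b, hab, hle⟩ := hanti
    have hab' : σ.symm a < σ.symm b :=
      lt_of_le_of_ne hle fun e => hab.ne (σ.symm.injective e)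
    intro χ hχ
    rw [hg, coeff_eHat_mul_right χ _ _ hu₂, coeff_eHat_mul_left χ _ _ hu₁]
    refine coeff_eHat_eq_zero hM hχ hU (AutPSL.transvection_mem_unitri hab 1) ?_ ?_
    · intro h
      have h1 := congrArg (fun x : SL(n, F) => (x : Matrix (Fin n) (Fin n) F) a b) h
      simp [Matrix.SpecialLinearGroup.transvection_coe, Matrix.one_apply, hab.ne] at h1
    · have e : w⁻¹ * Matrix.SpecialLinearGroup.transvection hab.ne 1 * w =
          Matrix.SpecialLinearGroup.transvection hab'.ne (s b / s a) := by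
        rw [mul_assoc, inv_mul_eq_iff_eq_mul]
        apply Subtype.ext
        rw [Matrix.SpecialLinearGroup.coe_mul, Matrix.SpecialLinearGroup.coe_mul,
          Matrix.SpecialLinearGroup.transvection_coe, Matrix.SpecialLinearGroup.transvection_coe,
          add_mul, mul_add, one_mul, mul_one, add_right_inj]
        ext i j
        rcases eq_or_ne i a with rfl | hi
        · rw [Matrix.single_mul_apply_same, one_mul, hw]
          rcases eq_or_ne j (σ.symm b) with rfl | hj
          · rw [Matrix.mul_single_apply_same, hw, Equiv.apply_symm_apply, if_pos rfl,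
              Equiv.apply_symm_apply, if_pos rfl, mul_div_cancel₀ _ (hs _)]
          · rw [Matrix.mul_single_apply_of_ne (hbj := hj), if_neg]
            intro h
            exact hj (by rw [h, Equiv.symm_apply_apply])
        · rw [Matrix.single_mul_apply_of_ne (h := hi)]
          rcases eq_or_ne j (σ.symm b) with rfl | hj
          · rw [Matrix.mul_single_apply_same, hw, Equiv.apply_symm_apply, if_neg hi, zero_mul]
          · rw [Matrix.mul_single_apply_of_ne (hbj := hj)]
      rw [e]
      exact AutPSL.transvection_mem_unitri hab' _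

/-- At most one character of defect zero. -/
theorem DZ.unique (hM : IsPModular p M) (hn : 2 ≤ n) {χ ψ : IrrCharacter SL(n, F)} (hχ : DZ p χ)
    (hψ : DZ p ψ) : χ = ψ := by
  classical
  by_contra hne
  have hU : IsPGroup p (AutPSL.unitri : Subgroup SL(n, F)) :=
    IsPGroup.of_card (AutPSL.card_unitri_eq_pow p)
  have hχ0 := eHat_ne_zero hM hχ hU
  have hψ0 := eHat_ne_zero hM hψ hU
  obtain ⟨g₀, hg₀⟩ : ∃ g, (eHat (M := M) χ AutPSL.unitri).coeff g ≠ 0 := by
    by_contra h
    push Not at h
    exact hχ0 (by ext g; simpa using h g)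
  obtain ⟨t, ht, htv⟩ := (eHat_value (M := M) hM g₀).resolve_left fun h => hg₀ (h χ hχ)
  set c := (eHat (M := M) ψ AutPSL.unitri).coeff g₀ / (eHat (M := M) χ AutPSL.unitri).coeff g₀
  have hprop : eHat (M := M) ψ AutPSL.unitri = c • eHat (M := M) χ AutPSL.unitri := by
    ext g
    rw [MonoidAlgebra.coeff_smul, Finsupp.smul_apply, smul_eq_mul]
    rcases eHat_value (M := M) hM g with h | ⟨s, hs, hsv⟩
    · rw [h χ hχ, h ψ hψ, mul_zero]
    · rw [hsv, hsv, sum_eMat_congr hM hn hψ hs ht, sum_eMat_congr hM hn hχ hs ht, ← htv, ← htv,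
        div_mul_cancel₀ _ hg₀]
  apply hψ0
  have h1 : eAlg (M := M) ψ * eHat (M := M) ψ AutPSL.unitri = eHat (M := M) ψ AutPSL.unitri := by
    rw [eHat, ← mul_assoc, eAlg_mul hM hψ hψ, if_pos rfl]
  rw [← h1, hprop, mul_smul_comm, eHat, ← mul_assoc, eAlg_mul hM hψ hχ, if_neg (Ne.symm hne),
    zero_mul, smul_zero]

end CfsgLib.SLBlocks
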