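import Mathlib
import Cfsg.Agent.Lib.Blocks.Green

/-!
Radical `p`-subgroups of `SL(n, F)` in the defining characteristic contain all transvections of a
proper nonzero subspace, so regular elements centralized by them are scalar.
-/

set_option autoImplicit false
set_option linter.unusedSectionVars false

namespace CfsgLib.SLBlocks

open Matrix
open scoped MatrixGroups

variable {F : Type*} [Field F] {n : ℕ}

/-- The transvection of a vector and a functional vanishing on it. -/
def tr {w φ : Fin n → F} (h : φ ⬝ᵥ w = 0) : SL(n, F) :=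
  ⟨1 + vecMulVec w φ, by
    rw [vecMulVec_eq Unit, det_one_add_replicateCol_mul_replicateRow, h, add_zero]⟩

theorem tr_val {w φ : Fin n → F} (h : φ ⬝ᵥ w = 0) :
    (tr h : Matrix (Fin n) (Fin n) F) = 1 + vecMulVec w φ := rfl

theorem tr_mulVec {w φ : Fin n → F} (h : φ ⬝ᵥ w = 0) (v : Fin n → F) :
    (tr h : Matrix (Fin n) (Fin n) F) *ᵥ v = v + (φ ⬝ᵥ v) • w := by
  rw [tr_val, add_mulVec, one_mulVec, vecMulVec_mulVec]
  simp

theorem vec_eq_zero_of_dot {v : Fin n → F} (h : ∀ φ : Fin n → F, φ ⬝ᵥ v = 0) : v = 0 :=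
  dotProduct_eq_zero v fun w => by rw [dotProduct_comm]; exact h w

/-- A functional killing a subspace and not a given vector outside it. -/
theorem exists_dot (U : Submodule F (Fin n → F)) {v : Fin n → F} (hv : v ∉ U) :
    ∃ φ : Fin n → F, (∀ u ∈ U, φ ⬝ᵥ u = 0) ∧ φ ⬝ᵥ v ≠ 0 := by
  obtain ⟨f, hf, hfv⟩ := Submodule.exists_dual_map_eq_bot_of_notMem hv inferInstance
  have e : ∀ u, (dotProductEquiv F (Fin n)).symm f ⬝ᵥ u = f u := fun u => by
    rw [← dotProductEquiv_apply_apply F (Fin n), LinearEquiv.apply_symm_apply]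
  refine ⟨(dotProductEquiv F (Fin n)).symm f, fun u hu => ?_, by rwa [e]⟩
  have h1 : f u ∈ U.map f := Submodule.mem_map_of_mem hu
  rwa [hfv, Submodule.mem_bot, ← e] at h1

variable (p : ℕ) [hp : Fact p.Prime] [CharP F p]

include hp in
/-- An element of order prime to `p` commuting with the transvections of a proper nonzero
subspace is central. -/
theorem mem_center_of_commute {x : SL(n, F)} (hx : ¬ p ∣ orderOf x)
    (U : Submodule F (Fin n → F)) (hU0 : U ≠ ⊥) (hU1 : U ≠ ⊤)
    (hcomm : ∀ (w φ : Fin n → F) (h : φ ⬝ᵥ w = 0), w ∈ U → (∀ u ∈ U, φ ⬝ᵥ u = 0) →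
      Commute x (tr h)) : x ∈ Subgroup.center SL(n, F) := by
  obtain ⟨v₀, -, hv₀⟩ := SetLike.exists_of_lt hU1.lt_top
  obtain ⟨φ₀, hφ₀, hφv₀⟩ := exists_dot U hv₀
  obtain ⟨w₀, hw₀, hw₀0⟩ := Submodule.exists_mem_ne_zero_of_ne_bot hU0
  set X := (x : Matrix (Fin n) (Fin n) F) with hX
  have key : ∀ (w φ : Fin n → F), w ∈ U → (∀ u ∈ U, φ ⬝ᵥ u = 0) → ∀ v,
      (φ ⬝ᵥ v) • (X *ᵥ w) = (φ ⬝ᵥ (X *ᵥ v)) • w := by
    intro w φ hw hφ v
    have h := congrArg (fun g : SL(n, F) => (g : Matrix (Fin n) (Fin n) F) *ᵥ v)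
      (hcomm w φ (hφ w hw) hw hφ).eq
    simp only [Matrix.SpecialLinearGroup.coe_mul, ← mulVec_mulVec, tr_mulVec, mulVec_add,
      mulVec_smul] at h
    exact add_left_cancel h
  set c := (φ₀ ⬝ᵥ (X *ᵥ v₀)) / (φ₀ ⬝ᵥ v₀) with hc
  have hU : ∀ w ∈ U, X *ᵥ w = c • w := fun w hw => by
    have h := key w φ₀ hw hφ₀ v₀
    calc X *ᵥ w = (φ₀ ⬝ᵥ v₀)⁻¹ • ((φ₀ ⬝ᵥ v₀) • (X *ᵥ w)) := by
          rw [smul_smul, inv_mul_cancel₀ hφv₀, one_smul]
      _ = c • w := by rw [h, smul_smul, hc, div_eq_inv_mul]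
  have himg : ∀ v, X *ᵥ v - c • v ∈ U := fun v => by
    by_contra hv
    obtain ⟨φ, hφ, hφv⟩ := exists_dot U hv
    have h := key w₀ φ hw₀ hφ v
    rw [hU w₀ hw₀, smul_smul, ← sub_eq_zero, ← sub_smul, smul_eq_zero, or_iff_left hw₀0] at h
    refine hφv ?_
    rw [dotProduct_sub, dotProduct_smul, smul_eq_mul]
    linear_combination -h
  set Y := X - c • (1 : Matrix (Fin n) (Fin n) F) with hY
  have hYv : ∀ v, Y *ᵥ v = X *ᵥ v - c • v := fun v => by
    rw [hY, sub_mulVec, smul_mulVec, one_mulVec]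
  have hY2 : Y * Y = 0 := Matrix.ext_of_mulVec_single fun i => by
    rw [zero_mulVec, ← mulVec_mulVec, hYv, hU _ (hYv _ ▸ himg _), sub_self]
  have hpow : ∀ m : ℕ, (c • (1 : Matrix (Fin n) (Fin n) F) + Y) ^ m =
      (c ^ m) • 1 + ((m : F) * c ^ (m - 1)) • Y := by
    intro m
    induction m with
    | zero => simp
    | succ m ih =>
      rw [pow_succ, ih]
      simp only [add_mul, mul_add, smul_mul_assoc, mul_smul_comm, one_mul, mul_one, smul_smul,
        hY2, smul_zero, add_zero]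
      rcases Nat.eq_zero_or_pos m with rfl | hm
      · simp
      · have : c ^ (m - 1) * c = c ^ m := by rw [← pow_succ, Nat.sub_add_cancel hm]
        rw [smul_add, smul_smul, smul_smul, add_assoc, ← add_smul, Nat.add_sub_cancel,
          Nat.cast_add, Nat.cast_one]
        congr 1
        · rw [pow_succ, mul_comm]
        · congr 1
          linear_combination (m : F) * this
  have hxp : x ^ p ∈ Subgroup.center SL(n, F) := by
    rw [Subgroup.mem_center_iff]
    intro g
    apply Subtype.ext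
    have h2 : ((x ^ p : SL(n, F)) : Matrix (Fin n) (Fin n) F) = (c ^ p) • 1 := by
      rw [Matrix.SpecialLinearGroup.coe_pow]
      have hXY : (x : Matrix (Fin n) (Fin n) F) = c • 1 + Y := by rw [hY, hX]; abel
      rw [hXY, hpow, CharP.cast_eq_zero, zero_mul, zero_smul, add_zero]
    rw [Matrix.SpecialLinearGroup.coe_mul, Matrix.SpecialLinearGroup.coe_mul, h2]
    simp
  obtain ⟨m, hm⟩ := exists_pow_eq_self_of_coprime (x := x)
    ((hp.out.coprime_iff_not_dvd.mpr hx) : p.Coprime (orderOf x))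
  rw [← hm]
  exact Subgroup.pow_mem _ hxp m

section Flag

variable (D : Subgroup SL(n, F))

/-- The iterated fixed series of a subgroup. -/
def flag : ℕ → Submodule F (Fin n → F)
  | 0 => ⊥
  | i + 1 => ⨅ d : D, (flag i).comap
      (Matrix.mulVecLin ((d : SL(n, F)) : Matrix (Fin n) (Fin n) F) - LinearMap.id)

theorem mem_flag_succ {i : ℕ} {v : Fin n → F} : v ∈ flag D (i + 1) ↔
    ∀ d ∈ D, ((d : SL(n, F)) : Matrix (Fin n) (Fin n) F) *ᵥ v - v ∈ flag D i := by
  simp [flag, Submodule.mem_iInf]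

theorem flag_le_succ : ∀ i : ℕ, flag D i ≤ flag D (i + 1)
  | 0 => bot_le
  | i + 1 => fun v hv => by
    rw [mem_flag_succ] at hv ⊢
    exact fun d hd => flag_le_succ i (hv d hd)

theorem flag_mono : Monotone (flag D) := monotone_nat_of_le_succ (flag_le_succ D)

/-- The stabilizer of the series. -/
def stab : Subgroup SL(n, F) where
  carrier := {g | ∀ i v, v ∈ flag D i ↔ (g : Matrix (Fin n) (Fin n) F) *ᵥ v ∈ flag D i}
  one_mem' := fun i v => by simp
  mul_mem' := fun {g h} hg hh i v => by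
    rw [Matrix.SpecialLinearGroup.coe_mul, ← mulVec_mulVec]
    exact (hh i v).trans (hg i _)
  inv_mem' := fun {g} hg i v => by
    have h := hg i (((g⁻¹ : SL(n, F)) : Matrix (Fin n) (Fin n) F) *ᵥ v)
    rw [mulVec_mulVec, ← Matrix.SpecialLinearGroup.coe_mul, mul_inv_cancel,
      Matrix.SpecialLinearGroup.coe_one, one_mulVec] at h
    exact h.symm

theorem normalizer_le_stab : Subgroup.normalizer (D : Set SL(n, F)) ≤ stab D := by
  intro g hg i
  induction i with
  | zero =>
    intro v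
    simp only [flag, Submodule.mem_bot]
    refine ⟨fun h => by rw [h, mulVec_zero], fun h => ?_⟩
    have h1 := congrArg (((g⁻¹ : SL(n, F)) : Matrix (Fin n) (Fin n) F) *ᵥ ·) h
    simp only [mulVec_mulVec, ← Matrix.SpecialLinearGroup.coe_mul, inv_mul_cancel,
      Matrix.SpecialLinearGroup.coe_one, one_mulVec, mulVec_zero] at h1
    exact h1
  | succ i ih =>
    intro v
    rw [mem_flag_succ, mem_flag_succ]
    have e : ∀ d : SL(n, F), (d : Matrix (Fin n) (Fin n) F) *ᵥ ((g : Matrix (Fin n) (Fin n) F) *ᵥ v) -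
        (g : Matrix (Fin n) (Fin n) F) *ᵥ v =
        (g : Matrix (Fin n) (Fin n) F) *ᵥ (((g⁻¹ * d * g : SL(n, F)) : Matrix (Fin n) (Fin n) F) *ᵥ v - v) := by
      intro d
      rw [mulVec_sub, mulVec_mulVec, mulVec_mulVec, ← Matrix.SpecialLinearGroup.coe_mul,
        ← Matrix.SpecialLinearGroup.coe_mul, show g * (g⁻¹ * d * g) = d * g by group]
    constructor
    · intro h d hd
      rw [e, ← ih]
      exact h _ ((Subgroup.mem_normalizer_iff''.mp hg d).mp hd)
    · intro h d hd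
      have h1 := h (g * d * g⁻¹) ((Subgroup.mem_normalizer_iff.mp hg d).mp hd)
      rw [e, ← ih, show g⁻¹ * (g * d * g⁻¹) * g = d by group] at h1
      exact h1

/-- The elements acting trivially on the factors of the series. -/
def unip : Subgroup SL(n, F) where
  carrier := {g | g ∈ stab D ∧
    ∀ i, ∀ v ∈ flag D (i + 1), (g : Matrix (Fin n) (Fin n) F) *ᵥ v - v ∈ flag D i}
  one_mem' := ⟨one_mem _, fun i v _ => by simp⟩
  mul_mem' := fun {g h} hg hh => ⟨mul_mem hg.1 hh.1, fun i v hv => by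
    rw [Matrix.SpecialLinearGroup.coe_mul, ← mulVec_mulVec]
    have e : (g : Matrix (Fin n) (Fin n) F) *ᵥ ((h : Matrix (Fin n) (Fin n) F) *ᵥ v) - v =
        (g : Matrix (Fin n) (Fin n) F) *ᵥ ((h : Matrix (Fin n) (Fin n) F) *ᵥ v - v) +
        ((g : Matrix (Fin n) (Fin n) F) *ᵥ v - v) := by rw [mulVec_sub]; abel
    rw [e]
    exact add_mem ((hg.1 i _).mp (hh.2 i v hv)) (hg.2 i v hv)⟩
  inv_mem' := fun {g} hg => ⟨inv_mem hg.1, fun i v hv => by
    have e : ((g⁻¹ : SL(n, F)) : Matrix (Fin n) (Fin n) F) *ᵥ v - v =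
        -(((g⁻¹ : SL(n, F)) : Matrix (Fin n) (Fin n) F) *ᵥ ((g : Matrix (Fin n) (Fin n) F) *ᵥ v - v)) := by
      rw [mulVec_sub, mulVec_mulVec, ← Matrix.SpecialLinearGroup.coe_mul, inv_mul_cancel,
        Matrix.SpecialLinearGroup.coe_one, one_mulVec]
      abel
    rw [e]
    exact neg_mem ((inv_mem hg.1 : g⁻¹ ∈ stab D) i _ |>.mp (hg.2 i v hv))⟩

theorem le_unip : D ≤ unip D := fun d hd =>
  ⟨normalizer_le_stab D (Subgroup.le_normalizer hd), fun _ _ hv => (mem_flag_succ D).mp hv d hd⟩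

theorem conj_mem_unip {g h : SL(n, F)} (hh : h ∈ stab D) (hg : g ∈ unip D) :
    h * g * h⁻¹ ∈ unip D := by
  refine ⟨mul_mem (mul_mem hh hg.1) (inv_mem hh), fun i v hv => ?_⟩
  have e : ((h * g * h⁻¹ : SL(n, F)) : Matrix (Fin n) (Fin n) F) *ᵥ v - v =
      (h : Matrix (Fin n) (Fin n) F) *ᵥ ((g : Matrix (Fin n) (Fin n) F) *ᵥ
        (((h⁻¹ : SL(n, F)) : Matrix (Fin n) (Fin n) F) *ᵥ v) -
        ((h⁻¹ : SL(n, F)) : Matrix (Fin n) (Fin n) F) *ᵥ v) := by
    simp only [mulVec_sub, mulVec_mulVec, ← Matrix.SpecialLinearGroup.coe_mul, mul_assoc,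
      mul_inv_cancel, Matrix.SpecialLinearGroup.coe_one, one_mulVec]
  rw [e]
  exact (hh i _).mp (hg.2 i _ (((inv_mem hh : h⁻¹ ∈ stab D) (i + 1) v).mp hv))

variable [Fintype F] {D}

include hp

/-- The series of a `p`-group strictly increases until it is everything. -/
theorem flag_lt_succ (hD : IsPGroup p D) {i : ℕ} (h : flag D i ≠ ⊤) :
    flag D i < flag D (i + 1) := by
  refine lt_of_le_of_ne (flag_le_succ D i) fun heq => ?_
  have hinv : ∀ d : D, flag D i ≤ (flag D i).comap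
      (Matrix.mulVecLin ((d : SL(n, F)) : Matrix (Fin n) (Fin n) F)) :=
    fun d v hv => ((normalizer_le_stab D (Subgroup.le_normalizer d.2)) i v).mp hv
  let act : D → ((Fin n → F) ⧸ flag D i) →+ ((Fin n → F) ⧸ flag D i) := fun d =>
    ((flag D i).mapQ (flag D i) _ (hinv d)).toAddMonoidHom
  have hmk : ∀ (d : D) (v : Fin n → F), act d (Submodule.Quotient.mk v) =
      Submodule.Quotient.mk (((d : SL(n, F)) : Matrix (Fin n) (Fin n) F) *ᵥ v) := fun _ _ => rfl
  obtain ⟨a, -, ha⟩ := SetLike.exists_of_lt h.lt_top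
  have hp0 : ∀ w : (Fin n → F) ⧸ flag D i, p • w = 0 := fun w => by
    rw [← Nat.cast_smul_eq_nsmul F, CharP.cast_eq_zero, zero_smul]
  let _ : Module (ZMod p) ((Fin n → F) ⧸ flag D i) := AddCommGroup.zmodModule hp0
  obtain ⟨w, -, hw0, hfix⟩ := CfsgLib.Blocks.Green.exists_fixed_ne_zero (p := p)
    (A := (Fin n → F) ⧸ flag D i) hD act
    (AddMonoidHom.ext fun w => by
      obtain ⟨v, rfl⟩ := Submodule.Quotient.mk_surjective _ w
      rw [hmk]; simp)
    (fun q q' w => by
      obtain ⟨v, rfl⟩ := Submodule.Quotient.mk_surjective _ w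
      simp only [hmk, Subgroup.coe_mul, Matrix.SpecialLinearGroup.coe_mul, mulVec_mulVec])
    ⊤ (e := Submodule.Quotient.mk a) (by rwa [Ne, Submodule.Quotient.mk_eq_zero])
    (fun _ => AddSubgroup.mem_top _)
  obtain ⟨v, rfl⟩ := Submodule.Quotient.mk_surjective _ w
  refine hw0 ((Submodule.Quotient.mk_eq_zero _).mpr (heq ▸ (mem_flag_succ D).mpr fun d hd => ?_))
  have := hfix ⟨d, hd⟩
  rw [hmk, Submodule.Quotient.eq] at this
  exact this

theorem flag_top (hD : IsPGroup p D) : flag D n = ⊤ := by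
  have h : ∀ i, flag D i = ⊤ ∨ i ≤ Module.finrank F (flag D i) := by
    intro i
    induction i with
    | zero => exact Or.inr (Nat.zero_le _)
    | succ i ih =>
      by_cases ht : flag D i = ⊤
      · exact Or.inl (top_le_iff.mp (ht ▸ flag_le_succ D i))
      · exact Or.inr ((ih.resolve_left ht).trans_lt
          (Submodule.finrank_lt_finrank_of_lt (flag_lt_succ p hD ht)))
  rcases h n with h | h
  · exact h
  · refine Submodule.eq_top_of_finrank_eq ?_
    have := Submodule.finrank_le (flag D n)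
    rw [Module.finrank_fin_fun] at this ⊢
    omega

theorem isPGroup_unip (hD : IsPGroup p D) : IsPGroup p (unip D) := by
  rintro ⟨g, hg⟩
  set A := (g : Matrix (Fin n) (Fin n) F) with hA
  have h : ∀ j ≤ n, ∀ v, (A - 1) ^ j *ᵥ v ∈ flag D (n - j) := by
    intro j
    induction j with
    | zero => intro _ v; simp [flag_top p hD]
    | succ j ih =>
      intro hj v
      have h1 := ih (by omega) v
      rw [show n - j = n - (j + 1) + 1 by omega] at h1
      rw [pow_succ', ← mulVec_mulVec, sub_mulVec, one_mulVec]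
      exact hg.2 _ _ h1
  have hnil : (A - 1) ^ n = 0 := Matrix.ext_of_mulVec_single fun i => by
    have h2 := h n le_rfl (Pi.single i 1)
    rw [Nat.sub_self] at h2
    rw [zero_mulVec]
    exact (Submodule.mem_bot F).mp h2
  obtain ⟨k, hk⟩ : ∃ k, n ≤ p ^ k := ⟨n, (Nat.lt_pow_self hp.out.one_lt).le⟩
  refine ⟨k, Subtype.ext (Subtype.ext ?_)⟩
  rw [SubmonoidClass.coe_pow, Matrix.SpecialLinearGroup.coe_pow, OneMemClass.coe_one,
    Matrix.SpecialLinearGroup.coe_one]
  rcases Nat.eq_zero_or_pos n with rfl | hn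
  · exact Subsingleton.elim _ _
  · have : Nonempty (Fin n) := ⟨⟨0, hn⟩⟩
    have h2 := pow_eq_zero_of_le hk hnil
    rwa [sub_pow_char_pow_of_commute p k (Commute.one_right A), one_pow, sub_eq_zero] at h2

/-- A nontrivial radical `p`-subgroup is the unipotent radical of the stabilizer of its series. -/
theorem eq_unip_of_radical (hD : IsPGroup p D)
    (hrad : ∀ Q : Subgroup SL(n, F), IsPGroup p Q → Q ≤ Subgroup.normalizer (D : Set SL(n, F)) →
      Subgroup.normalizer (D : Set SL(n, F)) ≤ Subgroup.normalizer (Q : Set SL(n, F)) → Q ≤ D) :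
    D = unip D := by
  set Q := unip D
  set N := Subgroup.normalizer (D : Set SL(n, F))
  have hQ := isPGroup_unip p hD
  have h1 : Q ⊓ N ≤ D := by
    refine hrad _ (hQ.to_le inf_le_left) inf_le_right fun h hh => ?_
    have hh' : h⁻¹ ∈ N := inv_mem hh
    rw [Subgroup.mem_normalizer_iff]
    intro g
    refine ⟨fun hg => ⟨conj_mem_unip D (normalizer_le_stab D hh) hg.1,
      mul_mem (mul_mem hh hg.2) hh'⟩, fun hg => ⟨?_, ?_⟩⟩
    · have := conj_mem_unip D (normalizer_le_stab D hh') hg.1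
      rwa [inv_inv, show h⁻¹ * (h * g * h⁻¹) * h = g by group] at this
    · have := mul_mem (mul_mem hh' hg.2) hh
      rwa [show h⁻¹ * (h * g * h⁻¹) * h = g by group] at this
  by_contra hne
  have : Group.IsNilpotent Q := hQ.isNilpotent
  have hnc := Group.normalizerCondition_of_isNilpotent (G := Q) (D.subgroupOf Q)
    (lt_top_iff_ne_top.mpr fun h => hne ((le_unip D).antisymm (Subgroup.subgroupOf_eq_top.mp h)))
  obtain ⟨g, hg, hgD⟩ := SetLike.exists_of_lt hnc
  refine hgD (Subgroup.mem_subgroupOf.mpr (h1 ⟨g.2, ?_⟩))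
  rw [Subgroup.mem_normalizer_iff] at hg
  refine Subgroup.mem_normalizer_iff.mpr fun d => ?_
  constructor
  · intro hd
    exact Subgroup.mem_subgroupOf.mp ((hg ⟨d, le_unip D hd⟩).mp (Subgroup.mem_subgroupOf.mpr hd))
  · intro hd
    have hdQ : d ∈ Q := by
      have := mul_mem (mul_mem (inv_mem g.2) (le_unip D hd)) g.2
      rwa [show (g : SL(n, F))⁻¹ * ((g : SL(n, F)) * d * (g : SL(n, F))⁻¹) * (g : SL(n, F)) = d by
        group] at this
    exact Subgroup.mem_subgroupOf.mp ((hg ⟨d, hdQ⟩).mpr (Subgroup.mem_subgroupOf.mpr hd))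

/-- A regular element centralized by a nontrivial radical `p`-subgroup is central. -/
theorem mem_center_of_radical (hD : IsPGroup p D) (hne : D ≠ ⊥)
    (hrad : ∀ Q : Subgroup SL(n, F), IsPGroup p Q → Q ≤ Subgroup.normalizer (D : Set SL(n, F)) →
      Subgroup.normalizer (D : Set SL(n, F)) ≤ Subgroup.normalizer (Q : Set SL(n, F)) → Q ≤ D)
    {x : SL(n, F)} (hx : ¬ p ∣ orderOf x) (hxD : D ≤ Subgroup.centralizer ({x} : Set SL(n, F))) :
    x ∈ Subgroup.center SL(n, F) := by
  have h1 : flag D 1 ≠ ⊤ := fun h => hne (eq_bot_iff.mpr fun d hd => Subgroup.mem_bot.mpr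
    (Subtype.ext (Matrix.ext_of_mulVec_single fun i => by
      have h2 := (mem_flag_succ D).mp (h ▸ Submodule.mem_top : (Pi.single i 1) ∈ flag D 1) d hd
      rw [Matrix.SpecialLinearGroup.coe_one, one_mulVec]
      exact sub_eq_zero.mp ((Submodule.mem_bot F).mp h2))))
  have h0 : flag D 1 ≠ ⊥ := fun h => by
    have := flag_lt_succ p hD (i := 0) (fun ht => h1 (top_le_iff.mp (ht ▸ flag_le_succ D 0)))
    rw [h] at this
    exact lt_irrefl _ this
  refine mem_center_of_commute p hx _ h0 h1 fun w φ h hw hφ => ?_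
  have hmem : tr h ∈ unip D := by
    have hw' : ∀ i, w ∈ flag D (i + 1) := fun i => flag_mono D (by omega) hw
    refine ⟨fun i v => ?_, fun i v hv => ?_⟩
    · rw [tr_mulVec]
      cases i with
      | zero =>
        simp only [flag, Submodule.mem_bot]
        refine ⟨fun e => by simp [e], fun e => ?_⟩
        have h2 : φ ⬝ᵥ v = 0 := by
          have h3 := congrArg (φ ⬝ᵥ ·) e
          simpa [dotProduct_add, dotProduct_smul, h] using h3
        simpa [h2] using e
      | succ i => exact (Submodule.add_mem_iff_left _ (Submodule.smul_mem _ _ (hw' i))).symm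
    · rw [tr_mulVec, add_sub_cancel_left]
      cases i with
      | zero => simp [hφ v hv]
      | succ i => exact Submodule.smul_mem _ _ (hw' i)
  rw [← eq_unip_of_radical p hD hrad] at hmem
  exact (Subgroup.mem_centralizer_singleton_iff.mp (hxD hmem)).symm

end Flag

end CfsgLib.SLBlocks
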