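import Cfsg.Agent.Lib.SLBlocks.Main
import Cfsg.Agent.Lib.SL2.Facts

/-!
The three blocks of `SL(2, q)` for odd `q` in the defining characteristic.
-/

set_option autoImplicit false
set_option linter.unusedSectionVars false

namespace CfsgLib.SLBlocks

open Matrix Cfsg CfsgLib.Char CfsgLib.Blocks
open scoped MatrixGroups

variable {F : Type*} [Field F] [Fintype F] [DecidableEq F]
variable (p : ℕ) [hp : Fact p.Prime] [CharP F p]

include hp

theorem two_blocks (hp2 : p ≠ 2) (M : Ideal AlgInt) (hM : IsPModular p M) :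
    (∀ B : Set (IrrCharacter SL(2, F)), IsPBlock M B ↔
      (B = {χ : IrrCharacter SL(2, F) | (χ : SL(2, F) → ℂ) 1 = (Fintype.card F : ℂ)} ∨
       B = {χ : IrrCharacter SL(2, F) | (χ : SL(2, F) → ℂ) (-1) = (χ : SL(2, F) → ℂ) 1 ∧
          (χ : SL(2, F) → ℂ) 1 ≠ (Fintype.card F : ℂ)} ∨
       B = {χ : IrrCharacter SL(2, F) | (χ : SL(2, F) → ℂ) (-1) = -(χ : SL(2, F) → ℂ) 1})) ∧
    Nat.card {B : Set (IrrCharacter SL(2, F)) // IsPBlock M B} = 3 ∧
    ∀ P : Sylow p SL(2, F),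
      IsDefectGroup p M {χ : IrrCharacter SL(2, F) | (χ : SL(2, F) → ℂ) (-1) = (χ : SL(2, F) → ℂ) 1 ∧
          (χ : SL(2, F) → ℂ) 1 ≠ (Fintype.card F : ℂ)} (P : Subgroup SL(2, F)) ∧
      IsDefectGroup p M {χ : IrrCharacter SL(2, F) | (χ : SL(2, F) → ℂ) (-1) = -(χ : SL(2, F) → ℂ) 1}
        (P : Subgroup SL(2, F)) := by
  classical
  have := isPrime_of_isPModular hM
  have hn : 2 ≤ 2 := le_rfl
  have hq : Fintype.card F ^ (2 : ℕ).choose 2 = Fintype.card F := by simp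
  have hFodd : (2 : F) ≠ 0 := fun h => hp2 <| by
    have := (CharP.cast_eq_zero_iff F p 2).mp (by exact_mod_cast h)
    exact ((Nat.prime_dvd_prime_iff_eq hp.out Nat.prime_two).mp this)
  have hgcd : Nat.gcd 2 (Fintype.card F - 1) = 2 := by
    obtain ⟨f, -, hf⟩ := FiniteField.card F p
    have ho : Odd (Fintype.card F) := hf ▸ (hp.out.odd_of_ne_two hp2).pow
    refine Nat.gcd_eq_left ?_
    obtain ⟨m, hm⟩ := ho
    exact ⟨m, by omega⟩
  obtain ⟨St, hSt1, hStz⟩ := exists_steinberg (F := F) p hn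
  rw [pow_factorization_SL (F := F) (n := 2) p, hq] at hSt1
  have hStDZ : DZ p St := by
    rw [DZ, charDegree, hSt1, Complex.natCast_re, Nat.floor_natCast]
    rw [← hq, ← pow_factorization_SL (F := F) (n := 2) p, hp.out.factorization_pow,
      Finsupp.single_eq_same]
  have hdz : ∀ χ : IrrCharacter SL(2, F), DZ p χ ↔ (χ : SL(2, F) → ℂ) 1 = (Fintype.card F : ℂ) := by
    intro χ
    refine ⟨fun h => by rw [DZ.unique hM hn h hStDZ, hSt1], fun h => ?_⟩
    rw [DZ, charDegree, h, ← hSt1] at *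
    exact hStDZ
  set z : Subgroup.center SL(2, F) := ⟨-1, SL2.neg_one_mem_center⟩
  have hval : ∀ χ : IrrCharacter SL(2, F),
      (χ : SL(2, F) → ℂ) (-1) = (cchar χ z : ℂ) * (χ : SL(2, F) → ℂ) 1 :=
    fun χ => cchar_apply χ z
  have hpm : ∀ l : Subgroup.center SL(2, F) →* ℂˣ, (l z : ℂ) = 1 ∨ (l z : ℂ) = -1 := fun l => by
    have h : z * z = 1 := Subtype.ext (by simp [z])
    have h2 : (l z : ℂ) * (l z : ℂ) = 1 := by rw [← Units.val_mul, ← map_mul, h, map_one, Units.val_one]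
    exact mul_self_eq_one_iff.mp h2
  have hext : ∀ l l' : Subgroup.center SL(2, F) →* ℂˣ, (l z : ℂ) = (l' z : ℂ) → l = l' := by
    intro l l' h
    refine MonoidHom.ext fun w => ?_
    rcases SL2.eq_one_or_eq_neg_one_of_mem_center (w : SL(2, F)) w.2 with e | e
    · rw [show w = 1 from Subtype.ext e, map_one, map_one]
    · rw [show w = z from Subtype.ext e]
      exact Units.ext h
  -- full blocks are the fibres of the central character
  have hsame : ∀ χ ψ : IrrCharacter SL(2, F), ¬ DZ p χ → ¬ DZ p ψ → cchar χ = cchar ψ →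
      ψ ∈ blockOf M (χ : SL(2, F) → ℂ) := by
    choose f hf hf' using exists_full (F := F) (M := M) hn hM
    let Φ : (Subgroup.center SL(2, F) →* ℂˣ) → {B : Set (IrrCharacter SL(2, F)) // IsPBlock M B ∧
        blockDefect p B = (Nat.card SL(2, F)).factorization p} := fun l =>
      ⟨blockOf M (f l : SL(2, F) → ℂ), isPBlock_blockOf _,
        (defect_eq_zero_or_full hM (isPBlock_blockOf _)).resolve_left fun h =>
          hf' l ((DZ_iff_of_mem hM (isPBlock_blockOf _) (mem_blockOf_self _)).mpr h)⟩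
    have hΦ : Function.Injective Φ := fun l l' h => by
      have h1 : blockOf M (f l : SL(2, F) → ℂ) = blockOf M (f l' : SL(2, F) → ℂ) := congrArg Subtype.val h
      rw [← hf l, ← hf l']
      exact cchar_eq_of_sameBlock hM (not_dvd_card_center hn)
        (mem_blockOf_iff.mp (h1 ▸ mem_blockOf_self (f l')))
    have hc : Nat.card (Subgroup.center SL(2, F) →* ℂˣ) = Nat.card (Subgroup.center SL(2, F)) := by
      open scoped IsMulCommutative in
      have : NeZero (Monoid.exponent (Subgroup.center SL(2, F))) :=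
        ⟨Monoid.exponent_ne_zero_of_finite⟩
      open scoped IsMulCommutative in
      exact CommGroup.card_monoidHom_of_hasEnoughRootsOfUnity (Subgroup.center SL(2, F)) ℂ
    have : Finite (Subgroup.center SL(2, F) →* ℂˣ) :=
      Nat.finite_of_card_ne_zero (by rw [hc]; exact Nat.card_pos.ne')
    have hbij : Function.Bijective Φ := by
      refine hΦ.bijective_of_nat_card_le ?_
      rw [hc, card_full hn hM, card_center_SL]
    have key : ∀ χ : IrrCharacter SL(2, F), ¬ DZ p χ →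
        blockOf M (χ : SL(2, F) → ℂ) = blockOf M (f (cchar χ) : SL(2, F) → ℂ) := by
      intro χ hχ
      obtain ⟨l, hl⟩ := hbij.2 ⟨blockOf M (χ : SL(2, F) → ℂ), isPBlock_blockOf _,
        (defect_eq_zero_or_full hM (isPBlock_blockOf _)).resolve_left fun h =>
          hχ ((DZ_iff_of_mem hM (isPBlock_blockOf _) (mem_blockOf_self _)).mpr h)⟩
      have h1 : blockOf M (f l : SL(2, F) → ℂ) = blockOf M (χ : SL(2, F) → ℂ) := congrArg Subtype.val hl
      have h2 : cchar (f l) = cchar χ := cchar_eq_of_sameBlock hM (not_dvd_card_center hn)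
        (mem_blockOf_iff.mp (h1 ▸ mem_blockOf_self χ))
      rw [hf l] at h2
      rw [← h1, h2]
    intro χ ψ hχ hψ h
    rw [key χ hχ, h, ← key ψ hψ]
    exact mem_blockOf_self ψ
  set B₀ : Set (IrrCharacter SL(2, F)) := {χ | (χ : SL(2, F) → ℂ) 1 = (Fintype.card F : ℂ)}
  set B₁ : Set (IrrCharacter SL(2, F)) := {χ | (χ : SL(2, F) → ℂ) (-1) = (χ : SL(2, F) → ℂ) 1 ∧
    (χ : SL(2, F) → ℂ) 1 ≠ (Fintype.card F : ℂ)}
  set B₂ : Set (IrrCharacter SL(2, F)) := {χ | (χ : SL(2, F) → ℂ) (-1) = -(χ : SL(2, F) → ℂ) 1}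
  have hne0 : ∀ χ : IrrCharacter SL(2, F), (χ : SL(2, F) → ℂ) 1 ≠ 0 := fun χ => irr_degree_ne_zero χ.2
  have hB₁ : ∀ χ, χ ∈ B₁ ↔ ¬ DZ p χ ∧ (cchar χ z : ℂ) = 1 := fun χ => by
    rw [hdz]
    show _ ∧ _ ↔ _
    rw [hval, mul_eq_right₀ (hne0 χ), and_comm]
  have hB₂ : ∀ χ, χ ∈ B₂ ↔ ¬ DZ p χ ∧ (cchar χ z : ℂ) = -1 := fun χ => by
    show _ = _ ↔ _
    rw [hval, ← neg_one_mul ((χ : SL(2, F) → ℂ) 1), mul_left_inj' (hne0 χ)]
    refine ⟨fun h => ⟨fun hd => ?_, h⟩, And.right⟩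
    rw [DZ.unique hM hn hd hStDZ] at h
    have h1 := hval St
    rw [hStz (-1) SL2.neg_one_mem_center, h, neg_one_mul] at h1
    exact hne0 St (by linear_combination h1 / 2)
  have hblockDZ : ∀ χ : IrrCharacter SL(2, F), DZ p χ → blockOf M (χ : SL(2, F) → ℂ) = B₀ := by
    intro χ hχ
    rw [blockOf_singleton hM hχ]
    ext ψ
    exact ⟨fun h => by rw [Set.mem_singleton_iff.mp h]; exact (hdz χ).mp hχ,
      fun h => DZ.unique hM hn ((hdz ψ).mpr h) hχ⟩
  have hfull : ∀ χ : IrrCharacter SL(2, F), ¬ DZ p χ → ∀ ψ,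
      ψ ∈ blockOf M (χ : SL(2, F) → ℂ) ↔ ¬ DZ p ψ ∧ (cchar ψ z : ℂ) = (cchar χ z : ℂ) := by
    intro χ hχ ψ
    refine ⟨fun h => ⟨fun hd => hχ ?_, ?_⟩, fun h => hsame χ ψ hχ h.1 (hext _ _ h.2.symm)⟩
    · have hs : χ ∈ blockOf M (ψ : SL(2, F) → ℂ) :=
        mem_blockOf_iff.mpr (SameBlock.symm (mem_blockOf_iff.mp h))
      rw [blockOf_singleton hM hd, Set.mem_singleton_iff] at hs
      rwa [hs]
    · rw [cchar_eq_of_sameBlock hM (not_dvd_card_center hn) (mem_blockOf_iff.mp h)]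
  obtain ⟨χ₁, hχ₁c, hχ₁⟩ := exists_full (F := F) (M := M) hn hM 1
  obtain ⟨χ₂, hχ₂, hχ₂c⟩ : ∃ χ : IrrCharacter SL(2, F), ¬ DZ p χ ∧ (cchar χ z : ℂ) = -1 := by
    by_contra h
    push Not at h
    have hall : ∀ l : Subgroup.center SL(2, F) →* ℂˣ, l = 1 := fun l => by
      obtain ⟨χ, hc, hd⟩ := exists_full (F := F) (M := M) hn hM l
      refine hext _ _ ?_
      rw [← hc]
      rw [(hpm (cchar χ)).resolve_right (h χ hd), MonoidHom.one_apply, Units.val_one]
    have hz1 : z = 1 := by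
      open scoped IsMulCommutative in
      have : NeZero (Monoid.exponent (Subgroup.center SL(2, F))) :=
        ⟨Monoid.exponent_ne_zero_of_finite⟩
      by_contra hz1
      open scoped IsMulCommutative in
      obtain ⟨l, hl⟩ := CommGroup.exists_apply_ne_one_of_hasEnoughRootsOfUnity
        (Subgroup.center SL(2, F)) ℂ hz1
      exact hl (by rw [hall l]; rfl)
    exact SL2.neg_one_ne_one hFodd (congrArg Subtype.val hz1)
  have e₁ : blockOf M (χ₁ : SL(2, F) → ℂ) = B₁ := Set.ext fun ψ => by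
    rw [hfull χ₁ hχ₁, hB₁, hχ₁c, MonoidHom.one_apply, Units.val_one]
  have e₂ : blockOf M (χ₂ : SL(2, F) → ℂ) = B₂ := Set.ext fun ψ => by
    rw [hfull χ₂ hχ₂, hB₂, hχ₂c]
  refine ⟨fun B => ⟨fun hB => ?_, ?_⟩, ?_, ?_⟩
  · obtain ⟨χ, hχ⟩ := IsPBlock.nonempty hB
    rw [IsPBlock.eq_blockOf hB hχ]
    by_cases hd : DZ p χ
    · exact Or.inl (hblockDZ χ hd)
    · right
      rcases hpm (cchar χ) with h | h
      · left
        ext ψ; rw [hfull χ hd, hB₁, h]
      · right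
        ext ψ; rw [hfull χ hd, hB₂, h]
  · rintro (rfl | rfl | rfl)
    · exact hblockDZ St hStDZ ▸ isPBlock_blockOf St
    · exact e₁ ▸ isPBlock_blockOf χ₁
    · exact e₂ ▸ isPBlock_blockOf χ₂
  · rw [card_blocks hn hM, hgcd]
  · intro P
    have hd : ∀ χ : IrrCharacter SL(2, F), ¬ DZ p χ →
        IsDefectGroup p M (blockOf M (χ : SL(2, F) → ℂ)) (P : Subgroup SL(2, F)) := by
      intro χ hχ
      have hB : IsPBlock M (blockOf M (χ : SL(2, F) → ℂ)) := isPBlock_blockOf _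
      obtain ⟨D, hD⟩ := exists_isDefectGroup hM hB
      have hcard : Nat.card D = p ^ (Nat.card SL(2, F)).factorization p := by
        rw [IsDefectGroup.card_eq hM hB hD, (defect_eq_zero_or_full hM hB).resolve_left fun h =>
          hχ ((DZ_iff_of_mem hM hB (mem_blockOf_self _)).mpr h)]
      obtain ⟨x, hx⟩ := MulAction.exists_smul_eq SL(2, F) (Sylow.ofCard D hcard) P
      have h2 := IsDefectGroup.conj hM hD x
      rw [← hx, Sylow.coe_subgroup_smul, Sylow.coe_ofCard]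
      exact h2
    exact ⟨e₁ ▸ hd χ₁ hχ₁, e₂ ▸ hd χ₂ hχ₂⟩

end CfsgLib.SLBlocks
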